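import Mathlib
import Groth.Prelude.Def_RegImm
import Groth.Agent.Synt29.QRDescent
import Groth.Agent.S2103

/-!
# `H₁`-regular sequences: flat maps, locality and change of generators
-/

set_option autoImplicit false
set_option linter.style.haveILetI false

universe u

open TensorProduct

namespace Groth.Agent.Div57

variable {A S : Type u} [CommRing A] [CommRing S] [Algebra A S] {c : ℕ}

/-- The trivial relations of a sequence. -/
def triv (f : Fin c → A) : Submodule A (Fin c → A) :=
  Submodule.span A {v : Fin c → A | ∃ i j : Fin c, v = Pi.single i (f j) - Pi.single j (f i)}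

theorem isH1Regular_iff (f : Fin c → A) :
    CAlgX.IsH1Regular f ↔ ∀ u : Fin c → A, ∑ i, u i * f i = 0 → u ∈ triv f := Iff.rfl

theorem triv_map {f : Fin c → A} {v : Fin c → A} (hv : v ∈ triv f) :
    (fun i => algebraMap A S (v i)) ∈ triv fun i => algebraMap A S (f i) := by
  classical
  induction hv using Submodule.span_induction with
  | mem x hx =>
    obtain ⟨i, j, rfl⟩ := hx
    refine Submodule.subset_span ⟨i, j, ?_⟩
    funext k
    simp only [Pi.sub_apply, map_sub, Pi.single_apply]
    split_ifs <;> simp
  | zero => simp only [Pi.zero_apply, map_zero]; exact zero_mem _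
  | add x y _ _ hx hy => simp only [Pi.add_apply, map_add]; exact add_mem hx hy
  | smul a x _ hx =>
    simp only [Pi.smul_apply, smul_eq_mul, map_mul]
    exact (triv fun i => algebraMap A S (f i)).smul_mem (algebraMap A S a) hx

/-- Relations over a flat algebra are combinations of relations over the base. -/
theorem rel_mem_span [Module.Flat A S] (f : Fin c → A) (u : Fin c → S)
    (hu : ∑ i, u i * algebraMap A S (f i) = 0) :
    u ∈ Submodule.span S ((fun v : Fin c → A => fun i => algebraMap A S (v i)) ''
      {v | ∑ i, v i * f i = 0}) := by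
  classical
  let φ : (Fin c → A) →ₗ[A] A := Fintype.linearCombination A f
  have hex : Function.Exact ((LinearMap.ker φ).subtype.lTensor S) (φ.lTensor S) :=
    Module.Flat.lTensor_exact S (LinearMap.exact_subtype_ker_map φ)
  let e := TensorProduct.piScalarRight A S S (Fin c)
  have he : ∀ z : S ⊗[A] (Fin c → A),
      Algebra.TensorProduct.rid A S S (φ.lTensor S z) = ∑ j, e z j * algebraMap A S (f j) := by
    intro z
    induction z using TensorProduct.induction_on with
    | zero => simp
    | tmul b v =>
      rw [LinearMap.lTensor_tmul, Algebra.TensorProduct.rid_tmul]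
      simp only [φ, Fintype.linearCombination_apply, smul_eq_mul, e, TensorProduct.piScalarRight_apply,
        TensorProduct.piScalarRightHom_tmul, Algebra.smul_def, map_sum, Finset.sum_mul, map_mul]
      exact Finset.sum_congr rfl fun j _ => by ring
    | add a b ha hb => simp only [map_add, ha, hb, Pi.add_apply, add_mul, Finset.sum_add_distrib]
  obtain ⟨w, hw⟩ := (hex (e.symm u)).1 ((Algebra.TensorProduct.rid A S S).injective (by
    rw [he, LinearEquiv.apply_symm_apply, hu, map_zero]))
  rw [← e.apply_symm_apply u, ← hw]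
  clear hw
  induction w using TensorProduct.induction_on with
  | zero => simp only [map_zero]; exact zero_mem _
  | tmul b v =>
    rw [LinearMap.lTensor_tmul]
    have h1 : e (b ⊗ₜ[A] v.1) = b • fun i => algebraMap A S (v.1 i) := by
      funext i
      simp only [e, TensorProduct.piScalarRight_apply, TensorProduct.piScalarRightHom_tmul, Algebra.smul_def,
        Pi.smul_apply, smul_eq_mul]
      exact mul_comm _ _
    refine h1 ▸ Submodule.smul_mem _ _ (Submodule.subset_span ⟨v.1, ?_, rfl⟩)
    have hv : φ v.1 = 0 := v.2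
    simpa only [φ, Fintype.linearCombination_apply, smul_eq_mul, Set.mem_setOf_eq] using hv
  | add a b ha hb => rw [map_add, map_add]; exact add_mem ha hb

/-- `H₁`-regular sequences stay so in flat algebras. -/
theorem h1_flat [Module.Flat A S] {f : Fin c → A} (hf : CAlgX.IsH1Regular f) :
    CAlgX.IsH1Regular fun i => algebraMap A S (f i) := by
  intro u hu
  refine (Submodule.span_le (p := triv fun i => algebraMap A S (f i))).2 ?_ (rel_mem_span f u hu)
  rintro _ ⟨v, hv, rfl⟩
  exact triv_map (hf v hv)

/-- The annihilator of an element killed in a flat algebra is not contained in a prime with a point over it. -/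
theorem exists_smul_eq_zero_of_one_tmul {M : Type u} [AddCommGroup M] [Module A M] [Module.Flat A S] (x : M)
    (hx : (1 : S) ⊗ₜ[A] x = 0) (Q : Ideal A) (Q' : Ideal S) [Q'.IsPrime] (hQ : Q'.comap (algebraMap A S) = Q) :
    ∃ a : A, a ∉ Q ∧ a • x = 0 := by
  by_contra hcon
  push Not at hcon
  let an : Ideal A := LinearMap.ker (LinearMap.toSpanSingleton A M x)
  have hle : an ≤ Q := fun a ha => by_contra fun h => hcon a h ha
  let q : A ⧸ an →ₗ[A] M := an.liftQ (LinearMap.toSpanSingleton A M x) le_rfl
  have hq : Function.Injective q := LinearMap.ker_eq_bot.1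
    (Submodule.ker_liftQ_eq_bot _ _ _ le_rfl)
  have h0 : ((1 : S) ⊗ₜ[A] (1 : A ⧸ an)) = 0 := by
    refine Module.Flat.lTensor_preserves_injective_linearMap (M := S) q hq ?_
    rw [map_zero, LinearMap.lTensor_tmul,
      show q 1 = x from one_smul A x]
    exact hx
  let ψ : S ⊗[A] (A ⧸ an) →ₐ[A] S ⧸ Q' :=
    Algebra.TensorProduct.lift (Ideal.Quotient.mkₐ A Q')
      (Ideal.Quotient.liftₐ an (Algebra.ofId A (S ⧸ Q')) fun a ha => Ideal.Quotient.eq_zero_iff_mem.2
        (show algebraMap A S a ∈ Q' from Ideal.mem_comap.1 (hQ ▸ hle ha)))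
      (fun _ _ => Commute.all _ _)
  have h1 := congrArg ψ h0
  rw [← Algebra.TensorProduct.one_def, map_one, map_zero] at h1
  exact Ideal.Quotient.zero_ne_one_iff.2 (Ideal.IsPrime.ne_top ‹_›) h1.symm

/-- `H₁`-regularity can be checked on flat algebras covering the spectrum. -/
theorem h1_of_local {f : Fin c → A} (h : ∀ Q : Ideal A, Q.IsMaximal →
      ∃ (T : Type u) (_ : CommRing T) (_ : Algebra A T) (_ : Module.Flat A T) (Q' : Ideal T),
        Q'.IsPrime ∧ Q'.comap (algebraMap A T) = Q ∧ CAlgX.IsH1Regular fun i => algebraMap A T (f i)) :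
    CAlgX.IsH1Regular f := by
  classical
  intro u hu
  by_contra hne
  obtain ⟨Q, hQ, hle⟩ := Ideal.exists_le_maximal ((triv f).colon ({u} : Set (Fin c → A))) fun htop => hne (by
    have h1 := Submodule.mem_colon_singleton.1 (htop ▸ Submodule.mem_top : (1 : A) ∈ (triv f).colon ({u} : Set (Fin c → A)))
    rwa [one_smul] at h1)
  obtain ⟨T, _, _, _, Q', hQ', hQc, hreg⟩ := h Q hQ
  have hu' := hreg (fun i => algebraMap A T (u i)) (by simp only [← map_mul, ← map_sum, hu, map_zero])
  let Λ : (Fin c → T) →ₗ[T] T ⊗[A] ((Fin c → A) ⧸ triv f) :=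
    ((triv f).mkQ.baseChange T).comp (TensorProduct.piScalarRight A T T (Fin c)).symm.toLinearMap
  have hΛ : ∀ v : Fin c → A, Λ (fun i => algebraMap A T (v i)) = 1 ⊗ₜ[A] (triv f).mkQ v := by
    intro v
    have h2 : (TensorProduct.piScalarRight A T T (Fin c)).symm (fun i => algebraMap A T (v i)) = 1 ⊗ₜ[A] v := by
      rw [LinearEquiv.symm_apply_eq]
      funext i
      simp [TensorProduct.piScalarRight_apply, TensorProduct.piScalarRightHom_tmul, Algebra.smul_def]
    simp only [Λ, LinearMap.comp_apply, LinearEquiv.coe_coe, h2, LinearMap.baseChange_tmul]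
  have hker : triv (fun i => algebraMap A T (f i)) ≤ LinearMap.ker Λ := by
    refine Submodule.span_le.2 ?_
    rintro _ ⟨i, j, rfl⟩
    have h3 : (Pi.single i (algebraMap A T (f j)) - Pi.single j (algebraMap A T (f i)) : Fin c → T) =
        fun k => algebraMap A T ((Pi.single i (f j) - Pi.single j (f i) : Fin c → A) k) := by
      funext k
      simp only [Pi.sub_apply, map_sub, Pi.single_apply]
      split_ifs <;> simp
    rw [SetLike.mem_coe, LinearMap.mem_ker, h3, hΛ]
    have h4 : (triv f).mkQ (Pi.single i (f j) - Pi.single j (f i)) = 0 :=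
      (Submodule.Quotient.mk_eq_zero _).2 (Submodule.subset_span ⟨i, j, rfl⟩)
    rw [h4, TensorProduct.tmul_zero]
  have h5 := LinearMap.mem_ker.1 (hker hu')
  rw [hΛ] at h5
  haveI := hQ'
  obtain ⟨a, ha, hax⟩ := exists_smul_eq_zero_of_one_tmul _ h5 Q Q' hQc
  rw [← map_smul] at hax
  exact ha (hle (Submodule.mem_colon_singleton.2 ((Submodule.Quotient.mk_eq_zero _).1 hax)))

/-- `H₁`-regularity descends along faithfully flat maps. -/
theorem h1_of_faithfullyFlat [Module.FaithfullyFlat A S] {f : Fin c → A}
    (hf : CAlgX.IsH1Regular fun i => algebraMap A S (f i)) : CAlgX.IsH1Regular f := by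
  refine h1_of_local fun Q hQ => ?_
  obtain ⟨P, hP⟩ := PrimeSpectrum.comap_surjective_of_faithfullyFlat (A := A) (B := S) ⟨Q, hQ.isPrime⟩
  exact ⟨S, inferInstance, inferInstance, inferInstance, P.asIdeal, P.2,
    congrArg PrimeSpectrum.asIdeal hP, hf⟩

/-- A sequence generating the unit ideal is `H₁`-regular. -/
theorem h1_of_span_eq_top {f : Fin c → A} (h : Ideal.span (Set.range f) = ⊤) : CAlgX.IsH1Regular f := by
  classical
  intro u hu
  obtain ⟨a, ha⟩ := Ideal.mem_span_range_iff_exists_fun.1 (h ▸ Submodule.mem_top : (1 : A) ∈ Ideal.span (Set.range f))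
  have key : u = ∑ i, ∑ j, (u i * a j) • (Pi.single i (f j) - Pi.single j (f i) : Fin c → A) := by
    funext k
    simp only [Finset.sum_apply, Pi.smul_apply, Pi.sub_apply, smul_eq_mul, mul_sub, Finset.sum_sub_distrib,
      Pi.single_apply, mul_ite, mul_zero, Finset.sum_ite_eq, Finset.mem_univ, if_true]
    rw [Finset.sum_eq_single k (fun i _ hi => Finset.sum_eq_zero fun j _ => if_neg (Ne.symm hi)) (by simp)]
    simp only [if_true]
    have h1 : ∑ j, u k * a j * f j = u k := by
      simp only [mul_assoc, ← Finset.mul_sum, ha, mul_one]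
    have h2 : ∑ i, u i * a k * f i = 0 := by
      calc ∑ i, u i * a k * f i = ∑ i, a k * (u i * f i) := Finset.sum_congr rfl fun i _ => by ring
        _ = 0 := by rw [← Finset.mul_sum, hu, mul_zero]
    rw [h1, h2, sub_zero]
  rw [key]
  exact Submodule.sum_mem _ fun i _ => Submodule.sum_mem _ fun j _ =>
    Submodule.smul_mem _ _ (Submodule.subset_span ⟨i, j, rfl⟩)

/-- Trivial relations are carried to trivial relations by a change of generators. -/
theorem triv_vecMul {e y : Fin c → A} (N : Matrix (Fin c) (Fin c) A) (he : e = N.mulVec y) {v : Fin c → A}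
    (hv : v ∈ triv e) : Matrix.vecMul v N ∈ triv y := by
  classical
  induction hv using Submodule.span_induction with
  | mem x hx =>
    obtain ⟨i, j, rfl⟩ := hx
    have h : Matrix.vecMul (Pi.single i (e j) - Pi.single j (e i)) N =
        ∑ k, ∑ l, (N i l * N j k) • (Pi.single l (y k) - Pi.single k (y l) : Fin c → A) := by
      funext m
      simp only [Matrix.sub_vecMul, Matrix.single_vecMul, Pi.sub_apply, Pi.smul_apply, Matrix.row,
        smul_eq_mul, Finset.sum_apply, Pi.single_apply, mul_sub, Finset.sum_sub_distrib, mul_ite, mul_zero,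
        Finset.sum_ite_eq, Finset.mem_univ, if_true]
      rw [Finset.sum_eq_single m (f := fun k => ∑ l, if m = k then N i l * N j k * y l else 0)
        (fun k _ hk => Finset.sum_eq_zero fun l _ => if_neg (Ne.symm hk)) (by simp)]
      simp only [if_true, he, Matrix.mulVec, dotProduct, Finset.sum_mul]
      congr 1 <;> exact Finset.sum_congr rfl fun k _ => by ring
    rw [h]
    exact Submodule.sum_mem _ fun k _ => Submodule.sum_mem _ fun l _ =>
      Submodule.smul_mem _ _ (Submodule.subset_span ⟨l, k, rfl⟩)
  | zero => rw [Matrix.zero_vecMul]; exact zero_mem _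
  | add a b _ _ ha hb => rw [Matrix.add_vecMul]; exact add_mem ha hb
  | smul a b _ hb => rw [Matrix.smul_vecMul]; exact Submodule.smul_mem _ _ hb

/-- `H₁`-regularity does not depend on the choice of generators, for a fixed length, near a prime containing
the ideal at which the generators are minimal. -/
theorem h1_of_span_eq (e y : Fin c → A) (he : CAlgX.IsH1Regular e)
    (h : Ideal.span (Set.range y) = Ideal.span (Set.range e)) : CAlgX.IsH1Regular y := by
  classical
  refine h1_of_local fun Q hQ => ?_
  haveI := hQ.isPrime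
  by_cases hle : Ideal.span (Set.range e) ≤ Q
  · have hM : ∀ i, ∃ m : Fin c → A, ∑ j, m j * e j = y i := fun i =>
      Ideal.mem_span_range_iff_exists_fun.1 (h ▸ Ideal.subset_span ⟨i, rfl⟩)
    have hN : ∀ j, ∃ m : Fin c → A, ∑ i, m i * y i = e j := fun j =>
      Ideal.mem_span_range_iff_exists_fun.1 (h.symm ▸ Ideal.subset_span ⟨j, rfl⟩)
    choose M hM using hM
    choose N hN using hN
    let MM : Matrix (Fin c) (Fin c) A := Matrix.of M
    let NN : Matrix (Fin c) (Fin c) A := Matrix.of N
    have hMy : MM.mulVec e = y := funext fun i => hM i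
    have hNe : NN.mulVec y = e := funext fun i => hN i
    let q : A →+* Q.ResidueField := algebraMap A Q.ResidueField
    have hq : ∀ i j, q ((NN * MM) i j) = q ((1 : Matrix (Fin c) (Fin c) A) i j) := fun i j => by
      rw [← sub_eq_zero, ← map_sub, Ideal.algebraMap_residueField_eq_zero]
      refine hle (Synt29.QRDescent.mem_of_rel (Groth.Agent.S2103.result e he)
        (fun l => (NN * MM) i l - (1 : Matrix (Fin c) (Fin c) A) i l) ?_ j)
      have h1 : (NN * MM).mulVec e = e := by rw [← Matrix.mulVec_mulVec, hMy, hNe]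
      have h2 : ((NN * MM) - 1).mulVec e = 0 := by rw [Matrix.sub_mulVec, h1, Matrix.one_mulVec, sub_self]
      exact congrFun h2 i
    have hdet : MM.det ∉ Q := fun hd => by
      have h1 : q (NN * MM).det = q (1 : Matrix (Fin c) (Fin c) A).det := by
        rw [RingHom.map_det, RingHom.map_det]
        exact congrArg Matrix.det (Matrix.ext fun i j => hq i j)
      rw [Matrix.det_one, map_one, Matrix.det_mul, map_mul,
        show q MM.det = 0 from Ideal.algebraMap_residueField_eq_zero.2 hd, mul_zero] at h1
      exact zero_ne_one h1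
    let T := Localization.Away MM.det
    obtain ⟨hQT, hQc⟩ := KRegLib.exists_prime_of_away T Q hdet
    haveI : Module.Flat A T := IsLocalization.flat _ (Submonoid.powers MM.det)
    refine ⟨T, inferInstance, inferInstance, inferInstance, Q.map (algebraMap A T), hQT, hQc, fun v hv => ?_⟩
    let α := algebraMap A T
    let eT : Fin c → T := fun i => α (e i)
    let yT : Fin c → T := fun i => α (y i)
    let MT : Matrix (Fin c) (Fin c) T := MM.map α
    have hu : IsUnit MT.det := by
      rw [show MT.det = α MM.det from (RingHom.map_det α MM).symm]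
      exact IsLocalization.Away.algebraMap_isUnit MM.det
    have hyT : MT.mulVec eT = yT := funext fun i => by
      simp only [MT, eT, yT, Matrix.mulVec, dotProduct, Matrix.map_apply, ← map_mul, ← map_sum]
      exact congrArg α (hM i)
    have hinv : eT = MT⁻¹.mulVec yT := by
      rw [← hyT, Matrix.mulVec_mulVec, Matrix.nonsing_inv_mul _ hu, Matrix.one_mulVec]
    have hrel : ∑ i, Matrix.vecMul v MT i * eT i = 0 := by
      have h1 : Matrix.vecMul v MT ⬝ᵥ eT = 0 := by
        rw [← Matrix.dotProduct_mulVec, hyT]
        exact hv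
      exact h1
    have h2 := triv_vecMul MT⁻¹ hinv (h1_flat (S := T) he _ hrel)
    rwa [Matrix.vecMul_vecMul, Matrix.mul_nonsing_inv _ hu, Matrix.vecMul_one] at h2
  · obtain ⟨g, hgI, hgQ⟩ := SetLike.not_le_iff_exists.1 hle
    let T := Localization.Away g
    obtain ⟨hQT, hQc⟩ := KRegLib.exists_prime_of_away T Q hgQ
    haveI : Module.Flat A T := IsLocalization.flat _ (Submonoid.powers g)
    refine ⟨T, inferInstance, inferInstance, inferInstance, Q.map (algebraMap A T), hQT, hQc,
      h1_of_span_eq_top ?_⟩
    rw [← Synt29.QRDescent.map_span_range, h]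
    exact Ideal.eq_top_of_isUnit_mem _ (Ideal.mem_map_of_mem _ hgI) (IsLocalization.Away.algebraMap_isUnit g)

end Groth.Agent.Div57
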