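import Mathlib
import Groth.Agent.Div57.H1Seq
import Groth.Agent.RegImmLib.Basic
import Groth.Agent.KRegLib.Kinds
import Groth.Agent.Synt29.QRDescentFF

/-!
# The four kinds of regular immersions: flat base change and fpqc descent
-/

set_option autoImplicit false
set_option linter.style.haveILetI false

universe u

open AlgebraicGeometry CategoryTheory RingTheory.Sequence

namespace Groth.Agent.Div57

open Groth.Agent.KRegLib Groth.Agent.RegImmLib Groth.Agent.Synt29.QRDescent

variable {R : Type u} [CommRing R]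

theorem h1_ofFn {n : ℕ} {f : Fin n → R} :
    CAlgX.IsH1Regular (List.ofFn f).get ↔ CAlgX.IsH1Regular f := by
  have key : ∀ (m : ℕ) (g : Fin m → R), (⟨m, g⟩ : Σ m, Fin m → R) = ⟨n, f⟩ →
      (CAlgX.IsH1Regular g ↔ CAlgX.IsH1Regular f) := by
    intro m g h
    obtain ⟨rfl, h⟩ := Sigma.mk.inj_iff.1 h
    rw [eq_of_heq h]
  refine key _ _ (Sigma.ext (List.length_ofFn (f := f)) ?_)
  refine (Fin.heq_fun_iff (List.length_ofFn (f := f))).2 fun i => ?_
  simp [List.get_eq_getElem]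

theorem quasi_ofFn {n : ℕ} {f : Fin n → R} :
    CAlgX.IsQuasiRegular (List.ofFn f).get ↔ CAlgX.IsQuasiRegular f := by
  have key : ∀ (m : ℕ) (g : Fin m → R), (⟨m, g⟩ : Σ m, Fin m → R) = ⟨n, f⟩ →
      (CAlgX.IsQuasiRegular g ↔ CAlgX.IsQuasiRegular f) := by
    intro m g h
    obtain ⟨rfl, h⟩ := Sigma.mk.inj_iff.1 h
    rw [eq_of_heq h]
  refine key _ _ (Sigma.ext (List.length_ofFn (f := f)) ?_)
  refine (Fin.heq_fun_iff (List.length_ofFn (f := f))).2 fun i => ?_
  simp [List.get_eq_getElem]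

/-- Flat ring maps preserve the kind of a sequence generating a proper ideal. -/
theorem seq_flat {S : Type u} [CommRing S] [Algebra R S] [Module.Flat R S] (k : RegImm.Kind) (rs : List R)
    (h : k.Seq R rs) (hne : Ideal.ofList (rs.map (algebraMap R S)) ≠ ⊤) :
    k.Seq S (rs.map (algebraMap R S)) := by
  have hl : rs.map (algebraMap R S) = List.ofFn fun i => algebraMap R S (rs.get i) := by
    conv_lhs => rw [← List.ofFn_get rs, List.map_ofFn]
    rfl
  cases k with
  | regular =>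
    exact ⟨(h.toIsWeaklyRegular.of_flat (S := S)), by
      simpa only [Ideal.smul_top_eq_map, Algebra.algebraMap_self, Ideal.map_id, ne_eq, eq_comm,
        smul_eq_mul, Ideal.mul_top] using hne⟩
  | koszul =>
    show LCI.IsKoszulRegularSeq S _
    rw [hl]
    exact KoszulFlatLib.isKoszulRegularSeq_of_isExact
      (WiebeLib.isExact_map (WiebeLib.isExact_of_isKoszulRegularSeq _ (by rw [List.ofFn_get]; exact h)))
  | h1 =>
    show CAlgX.IsH1Regular (rs.map (algebraMap R S)).get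
    rw [hl, h1_ofFn]
    exact h1_flat (S := S) h
  | quasi =>
    show CAlgX.IsQuasiRegular (rs.map (algebraMap R S)).get
    rw [hl, quasi_ofFn]
    exact qr_flat (S := S) h

/-- Flat base change of regular immersions of each kind. -/
theorem regImmAt_baseChange {X Y X' Y' : Scheme.{u}} {i : Y ⟶ X} {g : X' ⟶ X} [Flat g]
    {i' : Y' ⟶ X'} {g' : Y' ⟶ Y} (hsq : IsPullback g' i' i g) (z' : Y') (k : RegImm.Kind)
    (h : RegImm.IsRegularImmersionAt k i (g' z')) : RegImm.IsRegularImmersionAt k i' z' := by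
  obtain ⟨⟨U, hU⟩, hzU, hci, rs, hrs, hker⟩ := h
  have hx : g (i' z') ∈ U := by
    rw [show g (i' z') = i (g' z') from (congrArg (fun φ : Y' ⟶ X => φ z') hsq.w).symm]
    exact hzU
  obtain ⟨U', hU', hzU', hle⟩ := exists_isAffineOpen_mem_and_subset (U := g ⁻¹ᵁ U) (x := i' z') hx
  obtain ⟨hUY, hUs⟩ := Synt29.surjective_app_of_isClosedImmersion_restrict i U hU
  have hUY' : i' ⁻¹ᵁ U' = g' ⁻¹ᵁ (i ⁻¹ᵁ U) ⊓ i' ⁻¹ᵁ U' := by
    refine (inf_eq_right.2 fun y hy => ?_).symm
    show i (g' y) ∈ U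
    rw [show i (g' y) = g (i' y) from congrArg (fun φ : Y' ⟶ X => φ y) hsq.w]
    exact hle hy
  have hpo := (isIso_pushoutSection_iff hsq hle le_rfl hUY').1
    (isIso_pushoutSection_of_isAffineOpen hsq hle le_rfl hUY' hU hU' hUY)
  have hs : Function.Surjective (i.appLE U (i ⁻¹ᵁ U) le_rfl) := by
    rw [← Scheme.Hom.app_eq_appLE]
    exact hUs
  have hk := ker_of_isPushout hpo hs
  rw [← Scheme.Hom.app_eq_appLE, ← Scheme.Hom.app_eq_appLE] at hk
  haveI hci' : IsClosedImmersion (i' ∣_ U') := by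
    have h2 := Scheme.Hom.isPullback_resLE hsq hle le_rfl hUY'
    have h3 : IsClosedImmersion (i.resLE U (i ⁻¹ᵁ U) le_rfl) := by
      rw [Scheme.Hom.resLE_eq_morphismRestrict]
      exact hci
    rw [← Scheme.Hom.resLE_eq_morphismRestrict]
    exact MorphismProperty.of_isPullback (P := @IsClosedImmersion) h2 h3
  letI : Algebra Γ(X, U) Γ(X', U') := (g.appLE U U' hle).hom.toAlgebra
  haveI : Module.Flat Γ(X, U) Γ(X', U') := g.flat_appLE hU hU' hle
  have hker' : RingHom.ker (i'.app U').hom = Ideal.ofList (rs.map (algebraMap Γ(X, U) Γ(X', U'))) := by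
    rw [hk, hker, Ideal.map_ofList]
    rfl
  refine ⟨⟨U', hU'⟩, hzU', hci', rs.map (algebraMap Γ(X, U) Γ(X', U')), seq_flat k rs hrs ?_, hker'⟩
  rw [← hker']
  obtain ⟨hV, -⟩ := Synt29.surjective_app_of_isClosedImmersion_restrict i' U' hU'
  exact ne_top_of_le_ne_top (Ideal.IsPrime.ne_top inferInstance) (ker_app_le_primeIdealOf i' hU' hV z' hzU')

theorem regImm_baseChange {X Y X' Y' : Scheme.{u}} {i : Y ⟶ X} {g : X' ⟶ X} [Flat g]
    {i' : Y' ⟶ X'} {g' : Y' ⟶ Y} (hsq : IsPullback g' i' i g) (k : RegImm.Kind)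
    (hi : RegImm.IsRegularImmersion k i) : RegImm.IsRegularImmersion k i' :=
  ⟨MorphismProperty.of_isPullback (P := @IsImmersion) hsq hi.1,
    fun z' => regImmAt_baseChange hsq z' k (hi.2 (g' z'))⟩

/-- Being a regular sequence of some kind implies being one of the weaker kinds. -/
theorem regImm_weaken {Z X : Scheme.{u}} (i : Z ⟶ X) (k k' : RegImm.Kind)
    (hk : ∀ (R : Type u) [CommRing R] (rs : List R), k.Seq R rs → k'.Seq R rs)
    (h : RegImm.IsRegularImmersion k i) : RegImm.IsRegularImmersion k' i :=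
  ⟨h.1, fun z => by
    obtain ⟨U, hz, hci, rs, hrs, hker⟩ := h.2 z
    exact ⟨U, hz, hci, rs, hk _ rs hrs, hker⟩⟩

/-- The ideal `J` is generated near `P` by an `H₁`-regular sequence. -/
def H1Near (J P : Ideal R) : Prop :=
  ∃ g : R, g ∉ P ∧ ∃ (r : ℕ) (f : Fin r → Localization.Away g),
    CAlgX.IsH1Regular f ∧ Ideal.span (Set.range f) = J.map (algebraMap R (Localization.Away g))

/-- A quasi-regular sequence generating an ideal which is, locally on a faithfully flat algebra, generated by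
`H₁`-regular sequences is `H₁`-regular. -/
theorem h1_of_quasi_of_ff {B : Type u} [CommRing B] [Algebra R B] [Module.FaithfullyFlat R B] {r : ℕ}
    (e : Fin r → R) (he : CAlgX.IsQuasiRegular e)
    (hK : ∀ Q : Ideal B, Q.IsPrime → (∀ i, algebraMap R B (e i) ∈ Q) →
      H1Near (Ideal.span (Set.range fun i => algebraMap R B (e i))) Q) :
    CAlgX.IsH1Regular e := by
  refine h1_of_faithfullyFlat (S := B) (h1_of_local fun Q hQ => ?_)
  haveI := hQ.isPrime
  let y : Fin r → B := fun i => algebraMap R B (e i)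
  by_cases hy : ∀ i, y i ∈ Q
  · obtain ⟨g, hg, n, f, hf, hfI⟩ := hK Q inferInstance hy
    let T := Localization.Away g
    obtain ⟨hQT, hQc⟩ := exists_prime_of_away T Q hg
    haveI : Module.Flat B T := IsLocalization.flat _ (Submonoid.powers g)
    refine ⟨T, inferInstance, inferInstance, inferInstance, Q.map (algebraMap B T), hQT, hQc, ?_⟩
    let yT : Fin r → T := fun i => algebraMap B T (y i)
    rw [map_span_range] at hfI
    have hyT : CAlgX.IsQuasiRegular yT := qr_flat (qr_flat (S := B) he)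
    have hle : Ideal.span (Set.range yT) ≤ Q.map (algebraMap B T) :=
      Ideal.span_le.2 (Set.range_subset_iff.2 fun i => Ideal.mem_map_of_mem _ (hy i))
    haveI := hQT
    obtain rfl : r = n := card_eq_of_minimal (Q.map (algebraMap B T)) yT f hfI.symm
      (fun u hu i => hle (mem_of_rel hyT u hu i))
      (fun u hu i => hle (hfI ▸ mem_of_rel (Groth.Agent.S2103.result f hf) u hu i))
    exact h1_of_span_eq f yT hf hfI.symm
  · push Not at hy
    obtain ⟨i, hi⟩ := hy
    let T := Localization.Away (y i)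
    obtain ⟨hQT, hQc⟩ := exists_prime_of_away T Q hi
    haveI : Module.Flat B T := IsLocalization.flat _ (Submonoid.powers (y i))
    refine ⟨T, inferInstance, inferInstance, inferInstance, Q.map (algebraMap B T), hQT, hQc,
      h1_of_span_eq_top (Ideal.eq_top_of_isUnit_mem _ (Ideal.subset_span ⟨i, rfl⟩) ?_)⟩
    exact IsLocalization.Away.algebraMap_isUnit (y i)

/-- The kernel on an affine open of a regular immersion is, near each of its primes, generated by a sequence of
the given kind. -/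
theorem seq_near_of_regImm {Z X : Scheme.{u}} (i : Z ⟶ X) (k : RegImm.Kind)
    (h : RegImm.IsRegularImmersion k i) {D : X.Opens} (hD : IsAffineOpen D) [IsClosedImmersion (i ∣_ D)]
    (P : Ideal Γ(X, D)) [P.IsPrime] (hP : RingHom.ker (i.app D).hom ≤ P) :
    ∃ g : Γ(X, D), g ∉ P ∧ ∃ rs : List Γ(X, X.basicOpen g), k.Seq Γ(X, X.basicOpen g) rs ∧
      (RingHom.ker (i.app D).hom).map (X.presheaf.map (homOfLE (X.basicOpen_le g)).op).hom = Ideal.ofList rs := by
  obtain ⟨hD', hDs⟩ := Synt29.surjective_app_of_isClosedImmersion_restrict i D hD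
  let Q : Ideal Γ(Z, i ⁻¹ᵁ D) := P.map (i.app D).hom
  haveI : Q.IsPrime := Ideal.map_isPrime_of_surjective hDs hP
  let z : Z := hD'.fromSpec ⟨Q, inferInstance⟩
  have hz : i z = hD.fromSpec ⟨P, inferInstance⟩ := by
    have h1 := IsAffineOpen.SpecMap_appLE_fromSpec i hD hD' le_rfl
    show (hD'.fromSpec ≫ i) _ = _
    rw [← h1]
    show hD.fromSpec (Spec.map _ _) = _
    congr 1
    apply PrimeSpectrum.ext
    show Q.comap (i.appLE D (i ⁻¹ᵁ D) le_rfl).hom = P
    rw [← Scheme.Hom.app_eq_appLE]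
    show (P.map (i.app D).hom).comap (i.app D).hom = P
    rw [Ideal.comap_map_of_surjective _ hDs, ← RingHom.ker_eq_comap_bot, sup_eq_left]
    exact hP
  have hzD : i z ∈ D := hz ▸ hD.range_fromSpec.le ⟨_, rfl⟩
  obtain ⟨⟨W, hW⟩, hzW, hci, rs, hrs, hker⟩ := h.2 z
  obtain ⟨hW', hWs⟩ := Synt29.surjective_app_of_isClosedImmersion_restrict i W hW
  obtain ⟨g, g', hgg, hzg⟩ := exists_basicOpen_le_affine_inter hD hW (i z) ⟨hzD, hzW⟩
  haveI := hW.isLocalization_basicOpen g'
  letI : Algebra Γ(X, W) Γ(X, X.basicOpen g') := (X.presheaf.map (homOfLE (X.basicOpen_le g')).op).hom.toAlgebra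
  haveI : Module.Flat Γ(X, W) Γ(X, X.basicOpen g') := IsLocalization.flat _ (Submonoid.powers g')
  refine ⟨g, fun hmem => ?_, ?_⟩
  · have hzg' : hD.fromSpec ⟨P, inferInstance⟩ ∈ X.basicOpen g := hz ▸ hzg
    rw [← hD.fromSpec_image_basicOpen g] at hzg'
    obtain ⟨q, hq, hqe⟩ := hzg'
    exact hq (hD.fromSpec.isOpenEmbedding.injective hqe ▸ hmem)
  have key : ∀ (O : X.Opens) (_ : O = X.basicOpen g'), i z ∈ O → ∃ rs' : List Γ(X, O),
      k.Seq Γ(X, O) rs' ∧ RingHom.ker (i.app O).hom = Ideal.ofList rs' := by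
    rintro O rfl hzO
    have hk : RingHom.ker (i.app (X.basicOpen g')).hom =
        Ideal.ofList (rs.map (algebraMap Γ(X, W) Γ(X, X.basicOpen g'))) := by
      rw [(app_basicOpen_props i hW hW' hWs g').2.2, hker, Ideal.map_ofList]
      rfl
    refine ⟨_, seq_flat k rs hrs ?_, hk⟩
    rw [← hk]
    exact ne_top_of_le_ne_top (Ideal.IsPrime.ne_top inferInstance)
      (ker_app_le_primeIdealOf i (hW.basicOpen g') (app_basicOpen_props i hW hW' hWs g').2.1 z hzO)
  obtain ⟨rs', hrs', hk⟩ := key _ hgg hzg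
  exact ⟨rs', hrs', ((app_basicOpen_props i hD hD' hDs g).2.2).symm.trans hk⟩

/-- The same in terms of localizations. -/
theorem h1Near_of_regImm {Z X : Scheme.{u}} (i : Z ⟶ X)
    (h : RegImm.IsRegularImmersion .h1 i) {D : X.Opens} (hD : IsAffineOpen D) [IsClosedImmersion (i ∣_ D)]
    (P : Ideal Γ(X, D)) [P.IsPrime] (hP : RingHom.ker (i.app D).hom ≤ P) :
    H1Near (RingHom.ker (i.app D).hom) P := by
  obtain ⟨g, hg, rs, hrs, hI⟩ := seq_near_of_regImm i _ h hD P hP
  letI : Algebra Γ(X, D) Γ(X, X.basicOpen g) := (X.presheaf.map (homOfLE (X.basicOpen_le g)).op).hom.toAlgebra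
  haveI : IsLocalization.Away g Γ(X, X.basicOpen g) := hD.isLocalization_basicOpen g
  let e : Γ(X, X.basicOpen g) ≃ₐ[Γ(X, D)] Localization.Away g :=
    IsLocalization.algEquiv (Submonoid.powers g) _ _
  letI : Algebra Γ(X, X.basicOpen g) (Localization.Away g) := e.toAlgHom.toRingHom.toAlgebra
  haveI : Module.Flat Γ(X, X.basicOpen g) (Localization.Away g) :=
    RingHom.Flat.of_bijective (f := e.toAlgHom.toRingHom) e.bijective
  refine ⟨g, hg, rs.length, fun j => algebraMap Γ(X, X.basicOpen g) (Localization.Away g) (rs.get j),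
    h1_flat (S := Localization.Away g) hrs, ?_⟩
  rw [← map_span_range, span_range_eq_ofList, List.ofFn_get, ← hI, Ideal.map_map]
  congr 1
  exact RingHom.ext fun x => e.commutes x

/-- The same for quasi-regular sequences. -/
theorem qrNear_of_regImm {Z X : Scheme.{u}} (i : Z ⟶ X) (k : RegImm.Kind)
    (h : RegImm.IsRegularImmersion k i) {D : X.Opens} (hD : IsAffineOpen D) [IsClosedImmersion (i ∣_ D)]
    (P : Ideal Γ(X, D)) [P.IsPrime] (hP : RingHom.ker (i.app D).hom ≤ P) :
    QRNear (RingHom.ker (i.app D).hom) P := by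
  obtain ⟨g, hg, rs, hrs, hI⟩ := seq_near_of_regImm i _ h hD P hP
  letI : Algebra Γ(X, D) Γ(X, X.basicOpen g) := (X.presheaf.map (homOfLE (X.basicOpen_le g)).op).hom.toAlgebra
  haveI : IsLocalization.Away g Γ(X, X.basicOpen g) := hD.isLocalization_basicOpen g
  let e : Γ(X, X.basicOpen g) ≃ₐ[Γ(X, D)] Localization.Away g :=
    IsLocalization.algEquiv (Submonoid.powers g) _ _
  letI : Algebra Γ(X, X.basicOpen g) (Localization.Away g) := e.toAlgHom.toRingHom.toAlgebra
  haveI : Module.Flat Γ(X, X.basicOpen g) (Localization.Away g) :=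
    RingHom.Flat.of_bijective (f := e.toAlgHom.toRingHom) e.bijective
  refine ⟨g, hg, rs.length, fun j => algebraMap Γ(X, X.basicOpen g) (Localization.Away g) (rs.get j),
    qr_flat (S := Localization.Away g) (quasi_of_seq k rs hrs), ?_⟩
  rw [← map_span_range, span_range_eq_ofList, List.ofFn_get, ← hI, Ideal.map_map]
  congr 1
  exact RingHom.ext fun x => e.commutes x

/-- fpqc descent of quasi-regular and of `H₁`-regular immersions. -/
theorem regImm_of_fpqc {X Y X' Y' : Scheme.{u}} (i : Y ⟶ X) [IsImmersion i]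
    (g : X' ⟶ X) [Flat g] [Surjective g] [QuasiCompact g]
    (i' : Y' ⟶ X') (g' : Y' ⟶ Y) (hsq : IsPullback g' i' i g) (k : RegImm.Kind) (hk : k ≠ .regular)
    (hi' : RegImm.IsRegularImmersion k i') : RegImm.IsRegularImmersion k i := by
  by_cases hkk : k = .koszul
  · subst hkk
    exact isRegularImmersion_of_fpqc i g i' g' hsq hi'
  refine ⟨inferInstance, fun z => ?_⟩
  obtain ⟨U, hU, hzU, -, hci⟩ := exists_affine_isClosedImmersion_restrict i z ⊤ trivial
  haveI : CompactSpace (g ⁻¹ᵁ U : X'.Opens) :=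
    isCompact_iff_compactSpace.1 (QuasiCompact.isCompact_preimage (f := g) U U.2 hU.isCompact)
  obtain ⟨W, p, hp, hpl, hW⟩ :=
    (g ⁻¹ᵁ U).toScheme.exists_hom_isAffine_of_isZariskiLocalAtSource @AlgebraicGeometry.IsLocalIso.{u}
  haveI : Flat p := (IsLocalIso.le_of_isZariskiLocalAtSource @Flat) _ _ p hpl
  let q : W ⟶ X' := p ≫ (g ⁻¹ᵁ U).ι
  let Y'' := Limits.pullback i' q
  let i'' : Y'' ⟶ W := Limits.pullback.snd i' q
  have hsq'' : IsPullback (Limits.pullback.fst i' q ≫ g') i'' i (q ≫ g) :=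
    (IsPullback.of_hasPullback i' q).paste_horiz hsq
  have hi'' : RegImm.IsRegularImmersion k i'' := regImm_baseChange (IsPullback.of_hasPullback i' q) k hi'
  have hle : (⊤ : W.Opens) ≤ (q ≫ g) ⁻¹ᵁ U := fun w _ => (p w).2
  obtain ⟨hUY, hUs⟩ := Synt29.surjective_app_of_isClosedImmersion_restrict i U hU
  have hWtop : IsAffineOpen (⊤ : W.Opens) := isAffineOpen_top W
  have hUY' : i'' ⁻¹ᵁ ⊤ = (Limits.pullback.fst i' q ≫ g') ⁻¹ᵁ (i ⁻¹ᵁ U) ⊓ i'' ⁻¹ᵁ ⊤ := by
    refine (inf_eq_right.2 fun y hy => ?_).symm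
    show i ((Limits.pullback.fst i' q ≫ g') y) ∈ U
    rw [show i ((Limits.pullback.fst i' q ≫ g') y) = (q ≫ g) (i'' y) from
      congrArg (fun φ : Y'' ⟶ X => φ y) hsq''.w]
    exact hle hy
  have hpo := (isIso_pushoutSection_iff hsq'' hle le_rfl hUY').1
    (isIso_pushoutSection_of_isAffineOpen hsq'' hle le_rfl hUY' hU hWtop hUY)
  have hs : Function.Surjective (i.appLE U (i ⁻¹ᵁ U) le_rfl) := by
    rw [← Scheme.Hom.app_eq_appLE]
    exact hUs
  have hkm := ker_of_isPushout hpo hs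
  rw [← Scheme.Hom.app_eq_appLE, ← Scheme.Hom.app_eq_appLE] at hkm
  letI : Algebra Γ(X, U) Γ(W, ⊤) := ((q ≫ g).appLE U ⊤ hle).hom.toAlgebra
  haveI : Module.FaithfullyFlat Γ(X, U) Γ(W, ⊤) := by
    haveI hflat : Module.Flat Γ(X, U) Γ(W, ⊤) := (q ≫ g).flat_appLE hU hWtop hle
    refine RingHom.FaithfullyFlat.iff_flat_and_comap_surjective.2 ⟨hflat, fun P => ?_⟩
    obtain ⟨x', hx'⟩ := g.surjective (hU.fromSpec P)
    have hxU : x' ∈ g ⁻¹ᵁ U := by
      show g x' ∈ U
      rw [hx']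
      exact hU.range_fromSpec.le ⟨P, rfl⟩
    haveI := hp
    obtain ⟨w, hw⟩ := p.surjective ⟨x', hxU⟩
    refine ⟨hWtop.primeIdealOf ⟨w, trivial⟩, hU.fromSpec.isOpenEmbedding.injective ?_⟩
    show (Spec.map ((q ≫ g).appLE U ⊤ hle) ≫ hU.fromSpec) _ = _
    rw [IsAffineOpen.SpecMap_appLE_fromSpec (q ≫ g) hU hWtop hle]
    show (q ≫ g) (hWtop.fromSpec _) = _
    rw [hWtop.fromSpec_primeIdealOf]
    show g ((g ⁻¹ᵁ U).ι (p w)) = _
    rw [hw]
    exact hx'
  haveI : IsClosedImmersion (i'' ∣_ ⊤) := by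
    have h2 := Scheme.Hom.isPullback_resLE hsq'' hle le_rfl hUY'
    have h3 : IsClosedImmersion (i.resLE U (i ⁻¹ᵁ U) le_rfl) := by
      rw [Scheme.Hom.resLE_eq_morphismRestrict]
      exact hci
    rw [← Scheme.Hom.resLE_eq_morphismRestrict]
    exact MorphismProperty.of_isPullback (P := @IsClosedImmersion) h2 h3
  let I := RingHom.ker (i.app U).hom
  let alg := algebraMap Γ(X, U) Γ(W, ⊤)
  have hkm' : RingHom.ker (i''.app ⊤).hom = I.map alg := hkm
  have hQ : PP16.IsLocallyQuasiRegular Γ(X, U) I := isLocallyQuasiRegular_of_faithfullyFlat (B := Γ(W, ⊤)) I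
    fun P hP hle' => by
      haveI := hP
      rw [← hkm'] at hle' ⊢
      exact qrNear_of_regImm i'' k hi'' hWtop P hle'
  obtain ⟨hV, hVs⟩ := Synt29.surjective_app_of_isClosedImmersion_restrict i U hU
  have hle0 : I ≤ (hU.primeIdealOf ⟨i z, hzU⟩).asIdeal := ker_app_le_primeIdealOf i hU hV z hzU
  obtain ⟨G, hG, hon⟩ := QRNear.exists_on (hQ _ hle0)
  letI : Algebra Γ(X, U) Γ(X, X.basicOpen G) := (X.presheaf.map (homOfLE (X.basicOpen_le G)).op).hom.toAlgebra
  haveI : IsLocalization.Away G Γ(X, X.basicOpen G) := hU.isLocalization_basicOpen G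
  haveI : Module.Flat Γ(X, U) Γ(X, X.basicOpen G) := IsLocalization.flat _ (Submonoid.powers G)
  obtain ⟨n, e, he, heI⟩ := hon Γ(X, X.basicOpen G) (IsLocalization.Away.algebraMap_isUnit G)
  refine ⟨⟨X.basicOpen G, hU.basicOpen G⟩, ?_, isClosedImmersion_restrict_of_le i (X.basicOpen_le G),
    List.ofFn e, ?_, ((app_basicOpen_props i hU hV hVs G).2.2).trans (heI.symm.trans (span_range_eq_ofList e))⟩
  · show i z ∈ X.basicOpen G
    rw [← hU.fromSpec_image_basicOpen G]
    exact ⟨hU.primeIdealOf ⟨i z, hzU⟩, hG, hU.fromSpec_primeIdealOf _⟩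
  cases k with
  | regular => exact absurd rfl hk
  | koszul => exact absurd rfl hkk
  | quasi =>
    show CAlgX.IsQuasiRegular (List.ofFn e).get
    exact quasi_ofFn.2 he
  | h1 =>
    show CAlgX.IsH1Regular (List.ofFn e).get
    refine h1_ofFn.2 ?_
    -- the algebra `Γ(W) ⊗ Γ(X, D(G))`, a localization of `Γ(W)`
    let T := Γ(X, X.basicOpen G)
    let B' := TensorProduct Γ(X, U) T Γ(W, ⊤)
    letI : Algebra Γ(W, ⊤) B' := Algebra.TensorProduct.rightAlgebra
    haveI : Module.Flat Γ(W, ⊤) B' := Module.Flat.isBaseChange Γ(X, U) Γ(W, ⊤) T B'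
      (Algebra.IsPushout.out (R := Γ(X, U)) (S := Γ(W, ⊤)) (R' := T) (S' := B'))
    refine h1_of_quasi_of_ff (B := B') e he fun Q hQ' hQe => ?_
    haveI := hQ'
    have hspan : Ideal.span (Set.range fun j => algebraMap T B' (e j)) =
        (I.map alg).map (algebraMap Γ(W, ⊤) B') := by
      rw [← map_span_range e, heI, Ideal.map_map, Ideal.map_map, ← IsScalarTower.algebraMap_eq Γ(X, U) T B',
        ← IsScalarTower.algebraMap_eq Γ(X, U) Γ(W, ⊤) B']
    rw [hspan]
    have hleQ : I.map alg ≤ Q.comap (algebraMap Γ(W, ⊤) B') := by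
      rw [← Ideal.map_le_iff_le_comap, ← hspan]
      exact Ideal.span_le.2 (Set.range_subset_iff.2 hQe)
    rw [← hkm'] at hleQ ⊢
    obtain ⟨c, hc, r, f, hf, hfI⟩ := h1Near_of_regImm i'' hi'' hWtop (Q.comap (algebraMap Γ(W, ⊤) B')) hleQ
    let T₀ := Localization.Away (algebraMap Γ(W, ⊤) B' c)
    haveI : Module.Flat Γ(W, ⊤) T₀ := Module.Flat.trans Γ(W, ⊤) B' T₀
    have hu : IsUnit (algebraMap Γ(W, ⊤) T₀ c) := by
      rw [IsScalarTower.algebraMap_apply Γ(W, ⊤) B' T₀]
      exact IsLocalization.Away.algebraMap_isUnit _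
    letI : Algebra (Localization.Away c) T₀ := (IsLocalization.Away.lift c hu).toAlgebra
    haveI : IsScalarTower Γ(W, ⊤) (Localization.Away c) T₀ := IsScalarTower.of_algebraMap_eq fun x =>
      (IsLocalization.Away.lift_eq c hu x).symm
    haveI : Module.Flat (Localization.Away c) T₀ :=
      (Module.flat_iff_of_isLocalization (Localization.Away c) (Submonoid.powers c) T₀).2 inferInstance
    refine ⟨algebraMap Γ(W, ⊤) B' c, hc, r, fun j => algebraMap _ T₀ (f j), h1_flat hf, ?_⟩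
    rw [← map_span_range, hfI, Ideal.map_map, Ideal.map_map, ← IsScalarTower.algebraMap_eq Γ(W, ⊤) (Localization.Away c) T₀,
      ← IsScalarTower.algebraMap_eq Γ(W, ⊤) B' T₀]

end Groth.Agent.Div57
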