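import Groth.Agent.DivX.CodimOne
import Groth.Agent.Alg6.AssDepth
import Mathlib.RingTheory.UniqueFactorizationDomain.NormalizedFactors
import Mathlib.RingTheory.Ideal.KrullsHeightTheorem

/-!
# Ideals of factorial Noetherian domains without embedded components are principal
-/

universe u

set_option autoImplicit false
set_option linter.style.haveILetI false

open Groth.Agent

namespace Groth.Agent.Div57

variable {A : Type u} [CommRing A] [IsDomain A] [UniqueFactorizationMonoid A]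

/-- A nonzero ideal is an element times an ideal in no principal prime. -/
theorem exists_factor (I : Ideal A) (hI : I ≠ ⊥) :
    ∃ g : A, g ≠ 0 ∧ ∃ J : Ideal A, (∀ b, b ∈ J ↔ g * b ∈ I) ∧ I ≤ Ideal.span {g} ∧
      ∀ π : A, Prime π → ¬ J ≤ Ideal.span {π} := by
  obtain ⟨a, ha, ha0⟩ := Submodule.exists_mem_ne_zero_of_ne_bot hI
  let S : Set A := {b | ∃ g, a = g * b ∧ I ≤ Ideal.span {g}}
  obtain ⟨b, ⟨g, hab, hg⟩, hmin⟩ := (wellFounded_dvdNotUnit (α := A)).has_min S
    ⟨a, 1, (one_mul a).symm, by rw [Ideal.span_singleton_one]; exact le_top⟩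
  have hg0 : g ≠ 0 := fun h => ha0 (by rw [hab, h, zero_mul])
  refine ⟨g, hg0, Submodule.comap (LinearMap.mulLeft A g) I, fun c => Iff.rfl, hg, fun π hπ hle => ?_⟩
  have hgb : b ∈ Ideal.span {π} := hle (show g * b ∈ I from hab ▸ ha)
  obtain ⟨b', hb'⟩ := Ideal.mem_span_singleton.1 hgb
  refine hmin b' ⟨g * π, by rw [hab, hb', mul_assoc], fun x hx => ?_⟩ ⟨?_, π, hπ.not_unit, by rw [hb', mul_comm]⟩
  · obtain ⟨c, rfl⟩ := Ideal.mem_span_singleton.1 (hg hx)
    obtain ⟨d, rfl⟩ := Ideal.mem_span_singleton.1 (hle (show g * c ∈ I from hx))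
    exact Ideal.mem_span_singleton.2 ⟨d, by ring⟩
  · rintro rfl
    exact ha0 (by rw [hab, hb', mul_zero, mul_zero])

/-- A nonzero ideal all whose associated primes have height one is principal. -/
theorem exists_span_eq_of_ass [IsNoetherianRing A] (I : Ideal A)
    (h : ∀ P ∈ associatedPrimes A (A ⧸ I), P.height = 1) :
    ∃ g : A, g ≠ 0 ∧ I = Ideal.span {g} := by
  have hI : I ≠ ⊥ := by
    intro h0
    subst h0
    have := h (⊥ : Ideal A) (Alg6.mem_ass_iff.2 ⟨Ideal.isPrime_bot, Ideal.Quotient.mk _ 1, fun a => by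
      rw [Algebra.smul_def, Ideal.Quotient.algebraMap_eq, ← map_mul, mul_one, Ideal.Quotient.eq_zero_iff_mem]⟩)
    rw [Ideal.height_bot] at this
    exact zero_ne_one this
  obtain ⟨g, hg0, J, hJ, hle, hπ⟩ := exists_factor I hI
  refine ⟨g, hg0, le_antisymm hle ((Ideal.span_singleton_le_iff_mem _).2 ?_)⟩
  by_contra hg
  have hne : J ≠ ⊤ := fun h1 => hg (mul_one g ▸ (hJ 1).1 (h1 ▸ Submodule.mem_top))
  haveI : Nontrivial (A ⧸ J) := Ideal.Quotient.nontrivial_iff.2 hne
  obtain ⟨P, hP⟩ := associatedPrimes.nonempty A (A ⧸ J)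
  obtain ⟨hPp, z, hz⟩ := Alg6.mem_ass_iff.1 hP
  obtain ⟨b, rfl⟩ := Ideal.Quotient.mk_surjective z
  have hkey : ∀ a : A, a ∈ P ↔ g * (a * b) ∈ I := fun a => by
    rw [hz a, Algebra.smul_def, Ideal.Quotient.algebraMap_eq, ← map_mul, Ideal.Quotient.eq_zero_iff_mem, hJ]
  haveI := hPp
  obtain ⟨π, hπ', rfl⟩ := DivX.exists_prime_span_of_height_one P
    (h P (Alg6.mem_ass_iff.2 ⟨hPp, Ideal.Quotient.mk _ (g * b), fun a => by
      rw [Algebra.smul_def, Ideal.Quotient.algebraMap_eq, ← map_mul, Ideal.Quotient.eq_zero_iff_mem, hkey,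
        mul_left_comm]⟩))
  refine hπ π hπ' fun c hc => (hkey c).2 ?_
  rw [← mul_assoc]
  exact I.mul_mem_right b ((hJ c).1 hc)

end Groth.Agent.Div57
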