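import Groth.Agent.Div57.StIdeal
import Groth.Agent.Div57.UfdAlg
import Groth.Agent.QCoh.Stalk
import Mathlib.AlgebraicGeometry.IdealSheaf.Functorial
import Mathlib.RingTheory.Ideal.KrullsHeightTheorem

/-!
# Extending effective Cartier divisors across factorial points
-/

universe u

set_option autoImplicit false
set_option backward.isDefEq.respectTransparency false
set_option backward.isDefEq.respectTransparency.types false
set_option linter.style.haveILetI false

open CategoryTheory AlgebraicGeometry TopologicalSpace Groth.Agent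

namespace Groth.Agent.Div57

variable {X : Scheme.{u}}

/-- Membership in a kernel ideal is local. -/
theorem mem_ker_of_cover {Z : Scheme.{u}} (f : Z ⟶ X) [QuasiCompact f] (V : X.affineOpens) {ι : Type*}
    (W : ι → X.affineOpens) (hW : ∀ i, (W i).1 ≤ V.1) (hcov : f ⁻¹ᵁ V.1 ≤ ⨆ i, f ⁻¹ᵁ (W i).1)
    (b : Γ(X, V.1)) (h : ∀ i, X.presheaf.map (homOfLE (hW i)).op b ∈ f.ker.ideal (W i)) :
    b ∈ f.ker.ideal V := by
  rw [Scheme.Hom.ker_apply, RingHom.mem_ker]
  refine Z.sheaf.eq_of_locally_eq' (fun i => f ⁻¹ᵁ (W i).1) (f ⁻¹ᵁ V.1)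
    (fun i => (Opens.map f.base).map (homOfLE (hW i))) hcov _ 0 fun i => ?_
  have h1 := h i
  rw [Scheme.Hom.ker_apply, RingHom.mem_ker] at h1
  exact ((ConcreteCategory.congr_hom (f.naturality (homOfLE (hW i)).op) b).symm.trans h1).trans (map_zero _).symm

theorem ker_ideal_image [IsLocallyNoetherian X] {U : X.Opens} (D : (U : Scheme.{u}).IdealSheafData)
    (W : (U : Scheme.{u}).affineOpens) :
    D.ideal W = ((D.subschemeι ≫ U.ι).ker.ideal ⟨U.ι ''ᵁ W.1, W.2.image_of_isOpenImmersion U.ι⟩).comap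
      (U.ι.appIso W.1).inv.hom := by
  conv_lhs => rw [← Scheme.IdealSheafData.ker_subschemeι D]
  exact Scheme.ker_ideal_of_isPullback_of_isOpenImmersion (D.subschemeι ≫ U.ι) D.subschemeι
    (𝟙 D.subscheme) U.ι (IsPullback.of_vert_isIso_mono ⟨by simp⟩) W

theorem ker_ideal_image' [IsLocallyNoetherian X] {U : X.Opens} (D : (U : Scheme.{u}).IdealSheafData)
    (W : (U : Scheme.{u}).affineOpens) :
    (show Ideal Γ((U : Scheme.{u}), W.1) from
      (D.subschemeι ≫ U.ι).ker.ideal ⟨U.ι ''ᵁ W.1, W.2.image_of_isOpenImmersion U.ι⟩) = D.ideal W := by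
  rw [ker_ideal_image D W, Scheme.Opens.ι_appIso]
  rfl

variable [IsLocallyNoetherian X] {U : X.Opens} {D : (U : Scheme.{u}).IdealSheafData}

/-- The closure of a divisor is a divisor at the points of the open. -/
theorem exists_chart_mem (hD : BlowUp.IsEffCartierIdeal D) {x : X} (hx : x ∈ U) :
    ∃ V : X.affineOpens, x ∈ V.1 ∧ ∃ f : Γ(X, V.1), f ∈ nonZeroDivisors Γ(X, V.1) ∧
      (D.subschemeι ≫ U.ι).ker.ideal V = Ideal.span {f} := by
  obtain ⟨W, hxW, f, hf, hI⟩ := hD ⟨x, hx⟩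
  refine ⟨⟨U.ι ''ᵁ W.1, W.2.image_of_isOpenImmersion U.ι⟩, ⟨⟨x, hx⟩, hxW, rfl⟩, f, hf, ?_⟩
  exact (ker_ideal_image' D W).trans hI

theorem stI_mem (hD : BlowUp.IsEffCartierIdeal D) {x : X} (hx : x ∈ U) :
    ∃ g ∈ nonZeroDivisors (X.presheaf.stalk x),
      stI (D.subschemeι ≫ U.ι).ker x = Ideal.span {g} := by
  obtain ⟨V, hxV, f, hf, hI⟩ := exists_chart_mem hD hx
  refine ⟨X.presheaf.germ V.1 x hxV f, ?_, by rw [stI_eq _ V hxV, hI, Ideal.map_span, Set.image_singleton]⟩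
  letI := (X.presheaf.germ V.1 x hxV).hom.toAlgebra
  haveI : IsLocalization.AtPrime (X.presheaf.stalk x) (V.2.primeIdealOf ⟨x, hxV⟩).asIdeal :=
    V.2.isLocalization_stalk ⟨x, hxV⟩
  exact IsLocalization.map_nonZeroDivisors_le (V.2.primeIdealOf ⟨x, hxV⟩).asIdeal.primeCompl _
    (Submonoid.mem_map_of_mem _ hf)

/-- Membership in the closure at a point is tested on the generizations in the open. -/
theorem mem_stI_of_forall {x : X} (hxU : x ∉ U) (g : X.presheaf.stalk x)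
    (h : ∀ (z : X) (hz : z ⤳ x), z ∈ U →
      X.presheaf.stalkSpecializes hz g ∈ stI (D.subschemeι ≫ U.ι).ker z) :
    g ∈ stI (D.subschemeι ≫ U.ι).ker x := by
  classical
  set D' := (D.subschemeι ≫ U.ι).ker with hD'
  obtain ⟨V, hV, hxV⟩ := exists_aff x
  letI := (X.presheaf.germ V x hxV).hom.toAlgebra
  haveI := hV.isLocalization_stalk ⟨x, hxV⟩
  set p := (hV.primeIdealOf ⟨x, hxV⟩).asIdeal with hp
  obtain ⟨g₀, u, rfl⟩ := IsLocalization.exists_mk'_eq p.primeCompl g
  let ρ := fun a : Γ(X, V) => (X.presheaf.map (homOfLE (X.basicOpen_le a)).op).hom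
  have key : ∀ a : Γ(X, V), X.basicOpen a ≤ U →
      ∃ c : Γ(X, V), c ∉ p ∧ ρ a (c * g₀) ∈ D'.ideal ⟨X.basicOpen a, hV.basicOpen a⟩ := by
    intro a ha
    let C : Ideal Γ(X, V) := Submodule.comap (LinearMap.mulRight Γ(X, V) g₀)
      ((D'.ideal ⟨X.basicOpen a, hV.basicOpen a⟩).comap (ρ a))
    by_contra hno
    push Not at hno
    have hC : ∀ c ∈ C, c ∈ p := fun c hc => by_contra fun hcp => hno c hcp hc
    have hau : IsUnit (ρ a a) := X.toRingedSpace.isUnit_res_basicOpen a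
    have hdisj : Disjoint (C : Set Γ(X, V)) (Submonoid.powers a ⊔ p.primeCompl : Submonoid Γ(X, V)) := by
      refine Set.disjoint_left.2 fun c hc hcS => ?_
      obtain ⟨_, ⟨k, rfl⟩, s, hs, rfl⟩ := Submonoid.mem_sup.1 hcS
      refine hs (hC s ?_)
      have hc' : ρ a (a ^ k * s * g₀) ∈ D'.ideal ⟨X.basicOpen a, hV.basicOpen a⟩ := hc
      rw [mul_assoc, map_mul, map_pow, Ideal.unit_mul_mem_iff_mem _ (hau.pow k)] at hc'
      exact hc'
    obtain ⟨q, hqp, hCq, hqS⟩ := Ideal.exists_le_prime_disjoint _ _ hdisj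
    have haq : a ∉ q := fun haq => Set.disjoint_left.1 hqS haq
      (Submonoid.mem_sup_left (Submonoid.mem_powers a))
    have hqle : q ≤ p := fun c hc => by_contra fun hcp => Set.disjoint_left.1 hqS hc
      (Submonoid.mem_sup_right hcp)
    obtain ⟨z, hzV, hzq⟩ := QCoh.exists_point hV ⟨q, hqp⟩
    have hzp : z ⤳ x := by
      have h1 : hV.primeIdealOf ⟨z, hzV⟩ ⤳ hV.primeIdealOf ⟨x, hxV⟩ := by
        rw [← PrimeSpectrum.le_iff_specializes, hzq]; exact hqle
      have h2 := h1.map hV.fromSpec.continuous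
      rwa [hV.fromSpec_primeIdealOf, hV.fromSpec_primeIdealOf] at h2
    have hza : z ∈ X.basicOpen a := (QCoh.mem_basicOpen_iff_notMem hV hzV a).2 (by rw [hzq]; exact haq)
    have hg := h z hzp (ha hza)
    rw [stI_eq D' ⟨V, hV⟩ hzV] at hg
    letI := (X.presheaf.germ V z hzV).hom.toAlgebra
    haveI := hV.isLocalization_stalk ⟨z, hzV⟩
    have hg0 : X.presheaf.germ V z hzV g₀ ∈ (D'.ideal ⟨V, hV⟩).map (X.presheaf.germ V z hzV).hom := by
      have h1 : X.presheaf.germ V z hzV g₀ = X.presheaf.stalkSpecializes hzp (IsLocalization.mk' _ g₀ u) *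
          X.presheaf.germ V z hzV u.1 := by
        rw [← TopCat.Presheaf.germ_stalkSpecializes_apply X.presheaf hxV hzp g₀,
          ← TopCat.Presheaf.germ_stalkSpecializes_apply X.presheaf hxV hzp u.1, ← map_mul]
        exact congrArg _ (IsLocalization.mk'_spec (M := p.primeCompl) (X.presheaf.stalk x) g₀ u).symm
      rw [h1]
      exact Ideal.mul_mem_right _ _ hg
    obtain ⟨c, hc, hcg⟩ := (IsLocalization.algebraMap_mem_map_algebraMap_iff
      (hV.primeIdealOf ⟨z, hzV⟩).asIdeal.primeCompl (X.presheaf.stalk z) _ g₀).1 hg0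
    refine hc (hzq.symm ▸ hCq (show ρ a (c * g₀) ∈ D'.ideal ⟨X.basicOpen a, hV.basicOpen a⟩ from ?_))
    rw [← D'.map_ideal (U := ⟨X.basicOpen a, hV.basicOpen a⟩) (V := ⟨V, hV⟩) (X.basicOpen_le a)]
    exact Ideal.mem_map_of_mem _ hcg
  haveI : IsNoetherianRing Γ(X, V) := IsLocallyNoetherian.component_noetherian ⟨V, hV⟩
  haveI : NoetherianSpace ↥(V : Set X) := by
    rw [← hV.range_fromSpec]; exact NoetherianSpace.range _ hV.fromSpec.continuous
  have hUV : IsCompact ((U ⊓ V : X.Opens) : Set X) :=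
    (noetherianSpace_set_iff (V : Set X)).1 inferInstance _ Set.inter_subset_right
  obtain ⟨T, hT⟩ := hUV.elim_finite_subcover
    (fun a : {a : Γ(X, V) // X.basicOpen a ≤ U} => (X.basicOpen a.1 : Set X)) (fun a => (X.basicOpen a.1).isOpen)
    fun z hz => by
      obtain ⟨a, haU, hza⟩ := hV.exists_basicOpen_le (V := U ⊓ V) ⟨z, hz⟩ hz.2
      exact Set.mem_iUnion.2 ⟨⟨a, haU.trans inf_le_left⟩, hza⟩
  choose c hc hcg using key
  let cc := ∏ a ∈ T, c a.1 a.2
  have hmem : cc * g₀ ∈ D'.ideal ⟨V, hV⟩ := by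
    refine mem_ker_of_cover (D.subschemeι ≫ U.ι) ⟨V, hV⟩
      (fun a : T => ⟨X.basicOpen a.1.1, hV.basicOpen a.1.1⟩) (fun a => X.basicOpen_le a.1.1) (fun w hw => ?_) _ fun a => ?_
    · have hw' : (D.subschemeι ≫ U.ι) w ∈ (U ⊓ V : X.Opens) := ⟨(D.subschemeι w).2, hw⟩
      obtain ⟨a, ha, hwa⟩ := Set.mem_iUnion₂.1 (hT hw')
      exact Opens.mem_iSup.2 ⟨⟨a, ha⟩, hwa⟩
    · obtain ⟨k, hk⟩ : c a.1.1 a.1.2 ∣ cc := Finset.dvd_prod_of_mem (fun a => c a.1 a.2) a.2
      show ρ a.1.1 (cc * g₀) ∈ _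
      rw [hk, mul_right_comm, map_mul]
      exact Ideal.mul_mem_right _ _ (hcg a.1.1 a.1.2)
  rw [stI_eq D' ⟨V, hV⟩ hxV]
  refine (IsLocalization.mk'_mem_map_algebraMap_iff p.primeCompl (X.presheaf.stalk x) _ g₀ u).2
    ⟨cc, fun h => ?_, hmem⟩
  obtain ⟨a, -, ha⟩ := ((hV.primeIdealOf ⟨x, hxV⟩).isPrime.prod_mem_iff).1 h
  exact hc a.1 a.2 ha

/-- The closure of a divisor is principal at factorial points. -/
theorem stI_notMem (hD : BlowUp.IsEffCartierIdeal D) {x : X} (hxU : x ∉ U) [IsDomain (X.presheaf.stalk x)]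
    [UniqueFactorizationMonoid (X.presheaf.stalk x)] :
    ∃ g ∈ nonZeroDivisors (X.presheaf.stalk x), stI (D.subschemeι ≫ U.ι).ker x = Ideal.span {g} := by
  set D' := (D.subschemeι ≫ U.ι).ker
  have hne : stI D' x ≠ ⊥ := fun h0 => by
    have h1 : (1 : X.presheaf.stalk x) ∈ stI D' x := mem_stI_of_forall hxU 1 fun z hz hzU => by
      exfalso
      obtain ⟨f, hf, hI⟩ := stI_mem hD hzU
      rw [← stI_map D' hz, h0, Ideal.map_bot] at hI
      exact nonZeroDivisors.ne_zero hf (Ideal.span_singleton_eq_bot.1 hI.symm)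
    rw [h0] at h1
    exact one_ne_zero h1
  obtain ⟨g, hg0, J, hJ, hle, hπ⟩ := exists_factor (stI D' x) hne
  refine ⟨g, mem_nonZeroDivisors_of_ne_zero hg0, le_antisymm hle ((Ideal.span_singleton_le_iff_mem _).2
    (mem_stI_of_forall hxU g fun z hz hzU => ?_))⟩
  obtain ⟨f, hf, hI⟩ := stI_mem hD hzU
  letI : Algebra (X.presheaf.stalk x) (X.presheaf.stalk z) := (X.presheaf.stalkSpecializes hz).hom.toAlgebra
  haveI := H23.StalkPrimes.isLocalization_primeOf hz
  haveI : IsDomain (X.presheaf.stalk z) :=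
    IsLocalization.isDomain_of_atPrime (X.presheaf.stalk z) (CDiv6.primeOf hz).asIdeal
  let φ := algebraMap (X.presheaf.stalk x) (X.presheaf.stalk z)
  have hφ : Function.Injective φ := IsLocalization.injective (X.presheaf.stalk z)
    (CDiv6.primeOf hz).asIdeal.primeCompl_le_nonZeroDivisors
  have hφg : φ g ≠ 0 := fun h => hg0 (hφ (h.trans (map_zero φ).symm))
  have hIz : stI D' z = (stI D' x).map φ := (stI_map D' hz).symm
  obtain ⟨j, hj⟩ : φ g ∣ f := by
    have h1 : (stI D' x).map φ ≤ Ideal.span {φ g} := by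
      refine (Ideal.map_mono hle).trans ?_
      rw [Ideal.map_span, Set.image_singleton]
    rw [← hIz, hI, Ideal.span_singleton_le_iff_mem] at h1
    exact Ideal.mem_span_singleton.1 h1
  show φ g ∈ stI D' z
  rw [hI, Ideal.mem_span_singleton]
  suffices IsUnit j by
    rw [hj]
    exact this.mul_right_dvd.2 dvd_rfl
  by_contra hju
  have hj0 : j ≠ 0 := fun h => nonZeroDivisors.ne_zero hf (by rw [hj, h, mul_zero])
  obtain ⟨Q, hQ, -⟩ := Ideal.exists_minimalPrimes_le
    (show Ideal.span {j} ≤ IsLocalRing.maximalIdeal (X.presheaf.stalk z) from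
      (Ideal.span_singleton_le_iff_mem _).2 hju)
  haveI := hQ.1.1
  have hJQ : J ≤ Q.comap φ := fun b hb => by
    have h1 : φ (g * b) ∈ stI D' z := by rw [hIz]; exact Ideal.mem_map_of_mem φ ((hJ b).1 hb)
    rw [hI, Ideal.mem_span_singleton, hj, map_mul] at h1
    exact hQ.1.2 (Ideal.mem_span_singleton.2 ((mul_dvd_mul_iff_left hφg).1 h1))
  have hh : (Q.comap φ).height = 1 := by
    refine le_antisymm ?_ ?_
    · rw [show Q.comap φ = Q.under (X.presheaf.stalk x) from rfl,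
        IsLocalization.height_under (CDiv6.primeOf hz).asIdeal.primeCompl]
      exact Ideal.height_le_one_of_isPrincipal_of_mem_minimalPrimes _ Q hQ
    · rw [Order.one_le_iff_pos, pos_iff_ne_zero]
      intro h0
      haveI : (Q.comap φ).IsPrime := Ideal.comap_isPrime φ Q
      have h2 : Q.comap φ = ⊥ := by
        have hmin : Q.comap φ ∈ minimalPrimes (X.presheaf.stalk x) :=
          Ideal.mem_minimalPrimes_of_height_le (I := ⊥) bot_le (by rw [h0]; exact zero_le)
        rwa [IsDomain.minimalPrimes_eq_singleton_bot, Set.mem_singleton_iff] at hmin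
      obtain ⟨a, ha, ha0⟩ := Submodule.exists_mem_ne_zero_of_ne_bot hne
      obtain ⟨b, rfl⟩ := Ideal.mem_span_singleton.1 (hle ha)
      have hbQ : b ∈ Q.comap φ := hJQ ((hJ b).2 ha)
      rw [h2, Ideal.mem_bot] at hbQ
      exact ha0 (by rw [hbQ, mul_zero])
  haveI : (Q.comap φ).IsPrime := Ideal.comap_isPrime φ Q
  obtain ⟨π, hπ', hspan⟩ := DivX.exists_prime_span_of_height_one (Q.comap φ) hh
  exact hπ π hπ' (hJQ.trans hspan.le)

theorem exists_extension (hD : BlowUp.IsEffCartierIdeal D)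
    (hufd : ∀ x : X, x ∉ U → IsDomain (X.presheaf.stalk x) ∧ UniqueFactorizationMonoid (X.presheaf.stalk x)) :
    ∃ D' : X.IdealSheafData, BlowUp.IsEffCartierIdeal D' ∧ D'.comap U.ι = D := by
  refine ⟨(D.subschemeι ≫ U.ι).ker, isEffCartier_of_stI _ fun x _ => ?_, ?_⟩
  · by_cases hx : x ∈ U
    · exact stI_mem hD hx
    · obtain ⟨h1, h2⟩ := hufd x hx
      exact stI_notMem hD hx
  · refine Scheme.IdealSheafData.ext (funext fun W => ?_)
    rw [Scheme.IdealSheafData.ideal_comap_of_isOpenImmersion]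
    exact (ker_ideal_image D W).symm

end Groth.Agent.Div57
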