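import Groth.Agent.Div57.KQuot
import Groth.Agent.FlatMisc.RedTotal

/-!
# Schemes whose weakly associated points are locally finite
-/

universe u

set_option autoImplicit false
set_option backward.isDefEq.respectTransparency false
set_option backward.isDefEq.respectTransparency.types false
set_option linter.style.haveILetI false

open CategoryTheory AlgebraicGeometry TopologicalSpace Opposite

namespace Groth.Agent.Div57.KQuot

variable {X : Scheme.{u}}

theorem finite_maximal_of_finite_components (U : X.Opens)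
    (hfin : (irreducibleComponents ↥(U : Scheme.{u})).Finite) :
    {y : X | y ∈ U ∧ ∀ z : X, z ⤳ y → z = y}.Finite := by
  haveI := hfin.to_subtype
  let S' : Set (U : Scheme.{u}) := {y | ∀ z : X, z ⤳ U.ι y → z = U.ι y}
  have hS' : S'.Finite := by
    refine Set.Finite.of_finite_image (f := fun y => closure ({y} : Set (U : Scheme.{u}))) ?_ fun a _ b _ h => ?_
    · refine hfin.subset ?_
      rintro _ ⟨y, hy, rfl⟩
      exact FlatMisc.closure_mem_irreducibleComponents_of_generic y fun w hw =>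
        U.ι.isOpenEmbedding.injective (hy _ (hw.map U.ι.continuous))
    · exact ((specializes_iff_closure_subset.2 h.symm.subset).antisymm
        (specializes_iff_closure_subset.2 h.subset)).eq
  refine (hS'.image U.ι).subset ?_
  rintro y ⟨hy, hmax⟩
  exact ⟨⟨y, hy⟩, hmax, rfl⟩

theorem WA.maximal [IsReduced X] {y : X} (hy : WA y) (z : X) (hz : z ⤳ y) : z = y :=
  (AssPtX.isWeakAssPoint_structureModule_iff (QCoh.isQCoh_structureModule (X := X)) y).1 hy z hz

theorem WA_of_maximal [IsReduced X] {y : X} (hy : ∀ z : X, z ⤳ y → z = y) : WA y :=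
  (AssPtX.isWeakAssPoint_structureModule_iff (QCoh.isQCoh_structureModule (X := X)) y).2 hy

theorem wfin_of_finite_components [IsReduced X]
    (hfin : ∀ U : X.Opens, IsCompact (U : Set X) → (irreducibleComponents ↥(U : Scheme.{u})).Finite) : WFin X :=
  fun U => (finite_maximal_of_finite_components U.1 (hfin _ U.2.isCompact)).subset fun _ hy => ⟨hy.1, hy.2.maximal⟩

theorem wfin_of_locallyFinite [IsReduced X]
    (hX : ∀ x : X, ∃ W : X.Opens, x ∈ W ∧
      {Z : Set X | Z ∈ irreducibleComponents X ∧ (Z ∩ (W : Set X)).Nonempty}.Finite) : WFin X := by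
  intro U
  choose W hxW hW using hX
  obtain ⟨T, hT⟩ := U.2.isCompact.elim_finite_subcover (fun x : X => (W x : Set X)) (fun x => (W x).2)
    (fun z _ => Set.mem_iUnion.2 ⟨z, hxW z⟩)
  refine Set.Finite.of_finite_image (f := fun y : X => closure ({y} : Set X)) ?_ fun a _ b _ h => ?_
  · refine (T.finite_toSet.biUnion fun x _ => hW x).subset ?_
    rintro _ ⟨y, hy, rfl⟩
    obtain ⟨x, hx, hyx⟩ := Set.mem_iUnion₂.1 (hT hy.1)
    exact Set.mem_iUnion₂.2 ⟨x, hx, FlatMisc.closure_mem_irreducibleComponents_of_generic y hy.2.maximal,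
      y, subset_closure rfl, hyx⟩
  · exact ((specializes_iff_closure_subset.2 h.symm.subset).antisymm
      (specializes_iff_closure_subset.2 h.subset)).eq

/-- The element witnessing a weakly associated point. -/
theorem WA.exists_stalk {y : X} (hy : WA y) : ∃ m : X.presheaf.stalk y, m ≠ 0 ∧
    ∀ r : X.presheaf.stalk y, ¬ IsUnit r → ∃ n : ℕ, r ^ n * m = 0 := by
  obtain ⟨m, hm⟩ := hy
  let e := RefX.unitStalk (X := X) y
  refine ⟨e.symm m, fun h => (IsLocalRing.maximalIdeal.isMaximal (X.presheaf.stalk y)).ne_top ?_, fun r hr => ?_⟩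
  · rw [← hm, e.symm.map_eq_zero_iff.1 h, Ideal.radical_eq_top, Ideal.eq_top_iff_one]
    simp
  · obtain ⟨n, hn⟩ : r ∈ Ideal.radical (LinearMap.ker (LinearMap.toSpanSingleton (X.presheaf.stalk y)
        ((Coh.structureModule X).presheaf.stalk y) m)) := hm ▸ (IsLocalRing.mem_maximalIdeal _).2 hr
    rw [LinearMap.mem_ker, LinearMap.toSpanSingleton_apply] at hn
    have h1 := congrArg e.symm hn
    rw [map_smul, map_zero, smul_eq_mul] at h1
    exact ⟨n, h1⟩

/-- A schematically dense open contains the weakly associated points. -/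
theorem WA.mem_of_dense (hfin : WFin X) {U V : X.Opens}
    (hV : ∀ W : X.Opens, W ≤ U →
      Function.Injective ⇑(X.presheaf.map (homOfLE (inf_le_left : W ⊓ V ≤ W)).op))
    {y : X} (hy : WA y) (hyU : y ∈ U) : y ∈ V := by
  by_contra hyV
  obtain ⟨m, hm0, hm⟩ := hy.exists_stalk
  obtain ⟨W₀, hyW₀, s₀, rfl⟩ := TopCat.Presheaf.exists_germ_eq X.presheaf m
  obtain ⟨W, hW, hyW, hWle⟩ := exists_isAffineOpen_mem_and_subset (x := y) (U := W₀ ⊓ U) ⟨hyW₀, hyU⟩
  replace hWle : W ≤ W₀ ⊓ U := hWle
  let bad : Set X := {z | z ∈ W ∧ WA z ∧ ¬ z ⤳ y}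
  have hbad : bad.Finite := (hfin ⟨W, hW⟩).subset fun z hz => ⟨hz.1, hz.2.1⟩
  let W' : X.Opens := W ⊓
    ⟨(⋃ z ∈ bad, closure ({z} : Set X))ᶜ, (hbad.isClosed_biUnion fun z _ => isClosed_closure).isOpen_compl⟩
  have hyW' : y ∈ W' := by
    refine ⟨hyW, fun h => ?_⟩
    obtain ⟨z, hz, hzy⟩ := Set.mem_iUnion₂.1 h
    exact hz.2.2 (specializes_iff_mem_closure.2 hzy)
  have hW'W : W' ≤ W := inf_le_left
  let s := X.presheaf.map (homOfLE ((hW'W.trans hWle).trans inf_le_left)).op s₀
  have h0 : X.presheaf.map (homOfLE (inf_le_left : W' ⊓ V ≤ W')).op s = 0 := by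
    refine eq_zero_of_WA _ fun z hz hza => ?_
    rw [TopCat.Presheaf.germ_res_apply, TopCat.Presheaf.germ_res_apply]
    have hzy : z ⤳ y := by_contra fun h =>
      hz.1.2 (Set.mem_iUnion₂.2 ⟨z, ⟨hz.1.1, hza, h⟩, subset_closure rfl⟩)
    have hne : ¬ y ⤳ z := fun h => hyV (((h.antisymm hzy).eq) ▸ hz.2)
    have hp : ¬ (hW.primeIdealOf ⟨y, hyW⟩).asIdeal ≤ (hW.primeIdealOf ⟨z, hz.1.1⟩).asIdeal := fun h =>
      hne ((AssPtX.primeIdealOf_le_iff hW hyW hz.1.1).1 h)
    obtain ⟨a, hay, haz⟩ := Set.not_subset.1 hp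
    obtain ⟨n, hn⟩ := hm (X.presheaf.germ W y hyW a) fun h =>
      (QCoh.mem_basicOpen_iff_notMem hW hyW a).1 ((X.mem_basicOpen a y hyW).2 h) hay
    have h1 := congrArg (X.presheaf.stalkSpecializes hzy) hn
    rw [map_mul, map_pow, map_zero, TopCat.Presheaf.germ_stalkSpecializes_apply,
      TopCat.Presheaf.germ_stalkSpecializes_apply] at h1
    exact (((X.mem_basicOpen a z hz.1.1).1
      ((QCoh.mem_basicOpen_iff_notMem hW hz.1.1 a).2 haz)).pow n).mul_right_eq_zero.1 h1
  have hs : s = 0 := hV W' ((hW'W.trans hWle).trans inf_le_right) (h0.trans (map_zero _).symm)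
  have h1 := congrArg (X.presheaf.germ W' y hyW') hs
  rw [TopCat.Presheaf.germ_res_apply, map_zero] at h1
  exact hm0 h1

/-- Germs at weakly associated points without proper weakly associated generization. -/
theorem bijective_algebraMap_of_WA {y : X} (hy : WA y) :
    Function.Bijective (algebraMap (X.presheaf.stalk y) (Mero.KStalk X y)) :=
  (IsLocalization.atUnits (X.presheaf.stalk y) (Mero.regStalk X y) (S := Mero.KStalk X y)
    (fun _ hg => isUnit_of_mem_nonZeroDivisors hy (Mero.regStalk_le_nonZeroDivisors y hg))).bijective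

end Groth.Agent.Div57.KQuot
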