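import Groth.Agent.Div57.KQuotPts
import Groth.Agent.InvX.GenLocusPull
import Groth.Agent.ProjUPX.Affine

/-!
# Regular meromorphic sections of invertible modules

Regular meromorphic sections from compatible local data, from a frame on an open containing the
weakly associated points, and the correspondence with the modules of divisors.
-/

universe u

set_option autoImplicit false
set_option backward.isDefEq.respectTransparency false
set_option backward.isDefEq.respectTransparency.types false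
set_option linter.style.haveILetI false
set_option linter.unusedSectionVars false

open CategoryTheory AlgebraicGeometry TopologicalSpace Opposite

namespace Groth.Agent.Div57.KRegMero

open Groth.Agent.InvX Groth.Agent.Div57.KQuot

variable {X : Scheme.{u}} {L : X.Modules}

theorem mk_smul (x : X) (a : X.presheaf.stalk x) (b t : Mero.regStalk X x) (m : L.presheaf.stalk x) :
    (LocalizedModule.mk a b : Mero.KStalk X x) • (LocalizedModule.mk m t : Mero.MStalk L x) =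
      LocalizedModule.mk (a • m) (b * t) :=
  LocalizedModule.mk_smul_mk a m b t

/-- A germ of a frame freely generates the localized stalk. -/
theorem smul_frame_injective {U : X.Opens} {e : Γ(L, U)} (he : IsFrame e) {x : X} (hx : x ∈ U) :
    Function.Injective fun c : Mero.KStalk X x =>
      c • (LocalizedModule.mk (L.presheaf.germ U x hx e) 1 : Mero.MStalk L x) := by
  suffices h : ∀ c : Mero.KStalk X x,
      c • (LocalizedModule.mk (L.presheaf.germ U x hx e) 1 : Mero.MStalk L x) = 0 → c = 0 from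
    fun a b hab => sub_eq_zero.1 (h _ ((sub_smul a b _).trans (sub_eq_zero.2 hab)))
  intro c hc
  induction c using LocalizedModule.induction_on with
  | h a b =>
    rw [mk_smul, ← LocalizedModule.zero_mk (1 : Mero.regStalk X x)] at hc
    obtain ⟨⟨t, ht⟩, htc⟩ := LocalizedModule.mk_eq.1 hc
    simp only [one_smul, smul_zero, Submonoid.smul_def, ← mul_smul] at htc
    have h0 : t * a = 0 := (he.germ_bijective hx).1 (htc.trans (zero_smul (X.presheaf.stalk x) _).symm)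
    have ha : a = 0 := by
      rw [mul_comm] at h0
      exact mem_nonZeroDivisors_iff_right.1 (Mero.regStalk_le_nonZeroDivisors x ht) _ h0
    rw [ha, LocalizedModule.zero_mk]

/-- Compatible local generators times meromorphic units define a regular meromorphic section. -/
theorem hasRegularMero_of_data (U : X → X.Opens) (hxU : ∀ x, x ∈ U x) (e : ∀ x, Γ(L, U x))
    (he : ∀ x, IsFrame (e x)) (k : ∀ x, Γ(Mero.kmod X, U x)) (hk : ∀ x, IsUnit (k x))
    (hc : ∀ (x x' y : X) (hy : y ∈ U x) (hy' : y ∈ U x') (c : X.presheaf.stalk y),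
      L.presheaf.germ (U x') y hy' (e x') = c • L.presheaf.germ (U x) y hy (e x) →
      (k x').1 ⟨y, hy'⟩ * algebraMap (X.presheaf.stalk y) (Mero.KStalk X y) c = (k x).1 ⟨y, hy⟩) :
    Mero.HasRegularMero L := by
  let m : ∀ (x y : X) (_ : y ∈ U x), Mero.MStalk L y := fun x y hy =>
    (k x).1 ⟨y, hy⟩ • LocalizedModule.mk (L.presheaf.germ (U x) y hy (e x)) 1
  have hm : ∀ (x x' y : X) (hy : y ∈ U x) (hy' : y ∈ U x'), m x y hy = m x' y hy' := by
    intro x x' y hy hy'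
    obtain ⟨c, hcy⟩ := ((he x).germ_bijective hy).2 (L.presheaf.germ (U x') y hy' (e x'))
    have h1 := hc x x' y hy hy' c hcy.symm
    show _ • _ = _ • _
    rw [← h1, mul_smul]
    refine congrArg ((k x').1 ⟨y, hy'⟩ • ·) ?_
    rw [algebraMap_smul, LocalizedModule.smul'_mk]
    exact congrArg (fun z => LocalizedModule.mk z (1 : Mero.regStalk X y)) hcy
  refine ⟨⟨fun y => m y.1 y.1 (hxU y.1), fun y => ?_⟩, fun y q hq => ?_⟩
  · obtain ⟨W, hyW, i, a, b, hab⟩ := (k y.1).2 ⟨y.1, hxU y.1⟩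
    refine ⟨W, hyW, homOfLE le_top, a • AModX.res L i.le (e y.1), b, fun z => ?_⟩
    show m z.1 z.1 (hxU z.1) = _
    rw [hm z.1 y.1 z.1 (hxU z.1) (i.le z.2)]
    show (k y.1).1 (i z) • _ = _
    refine (congrArg (· • (LocalizedModule.mk (L.presheaf.germ (U y.1) z.1 (i.le z.2) (e y.1)) 1 : Mero.MStalk L z.1)) (hab z)).trans ?_
    rw [mk_smul]
    refine Mero.mk_congr ?_ (by simp)
    rw [QCoh.germ_smul']
    exact congrArg (_ • ·) (L.presheaf.germ_res_apply i z.1 z.2 (e y.1)).symm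
  · have h1 : q • m y y (hxU y) = 0 := hq
    have h2 : (q * (k y).1 ⟨y, hxU y⟩) = 0 := smul_frame_injective (he y) (hxU y) (by
      show (q * _) • _ = (0 : Mero.KStalk X y) • _
      rw [zero_smul, mul_smul]; exact h1)
    exact ((hk y).map (Mero.evalK X (U y) ⟨y, hxU y⟩)).mul_left_eq_zero.1 h2

/-- Divisor modules have regular meromorphic sections. -/
theorem hasRegularMero_of_iso (D : Mero.Divisor X) (φ : L ≅ Mero.divMod D) : Mero.HasRegularMero L := by
  have h := fun x => DivX.exists_gen_frame D x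
  choose U hxU f hD hf using h
  refine hasRegularMero_of_data U hxU (fun x => φ.inv.app (U x) (DivX.gen (f x) (hD x)))
    (fun x => (hf x).map_iso φ.symm) (fun x => (f x : Γ(Mero.kmod X, U x))) (fun x => (f x).isUnit) ?_
  intro x x' y hy hy' c hcy
  obtain ⟨g, hg⟩ := (hf x).exists_coord (inf_le_left : U x ⊓ U x' ≤ U x)
    (AModX.res (Mero.divMod D) inf_le_right (DivX.gen (f x') (hD x')))
  have hg' := congrArg (φ.inv.app (U x ⊓ U x')) hg
  rw [Scheme.Modules.Hom.app_smul, AModX.app_res, AModX.app_res] at hg'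
  have hcg : c = X.presheaf.germ (U x ⊓ U x') y ⟨hy, hy'⟩ g := by
    refine (((hf x).map_iso φ.symm).germ_bijective hy).1 ?_
    have h2 := congrArg (L.presheaf.germ (U x ⊓ U x') y ⟨hy, hy'⟩) hg'
    rw [QCoh.germ_smul', germ_res', germ_res'] at h2
    exact hcy.symm.trans h2
  have h3 : (((f x')⁻¹ : (Γ(Mero.kmod X, U x'))ˣ) : Γ(Mero.kmod X, U x')).1 ⟨y, hy'⟩ =
      algebraMap (X.presheaf.stalk y) (Mero.KStalk X y) c *
        (((f x)⁻¹ : (Γ(Mero.kmod X, U x))ˣ) : Γ(Mero.kmod X, U x)).1 ⟨y, hy⟩ := by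
    rw [hcg, ← Algebra.smul_def]
    exact congrArg (fun t : Γ(Mero.divMod D, U x ⊓ U x') => t.1 ⟨y, hy, hy'⟩) hg
  have h4 := DivX.unit_val_mul (f x') ⟨y, hy'⟩
  have h5 := DivX.unit_val_mul (f x) ⟨y, hy⟩
  rw [h3] at h4
  linear_combination ((f x : Γ(Mero.kmod X, U x)).1 ⟨y, hy⟩) * h4 -
    ((f x' : Γ(Mero.kmod X, U x')).1 ⟨y, hy'⟩) * algebraMap (X.presheaf.stalk y) (Mero.KStalk X y) c * h5

/-- Local coefficient of a regular meromorphic section against a frame. -/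
theorem exists_coeff (s : Γ(Mero.merMod L, ⊤)) (hs : Mero.IsRegularMero L s) (hL : PicF.IsInvertible L) (x : X) :
    ∃ (U : X.Opens) (_ : x ∈ U) (e : Γ(L, U)) (_ : IsFrame e) (f : (Γ(Mero.kmod X, U))ˣ), ∀ y : U,
      s.1 ⟨y.1, trivial⟩ = (f : Γ(Mero.kmod X, U)).1 y • LocalizedModule.mk (L.presheaf.germ U y.1 y.2 e) 1 := by
  obtain ⟨U₀, hx₀, e₀, he₀⟩ := exists_frame hL x
  obtain ⟨W, hxW, i, m, b, hmb⟩ := s.2 ⟨x, trivial⟩
  let U := W ⊓ U₀
  obtain ⟨a, ha⟩ := he₀.exists_coord (inf_le_right : U ≤ U₀) (AModX.res L (inf_le_left : U ≤ W) m)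
  let b' : Mero.regSub X U := ⟨X.presheaf.map (homOfLE (inf_le_left : U ≤ W)).op b.1, Mero.regSub_res _ b.2⟩
  have hval : ∀ y : U, s.1 ⟨y.1, trivial⟩ = (frac a b').1 y •
      LocalizedModule.mk (L.presheaf.germ U y.1 y.2 (AModX.res L inf_le_right e₀)) 1 := fun y => by
    refine (hmb ⟨y.1, y.2.1⟩).trans ?_
    rw [frac_val, mk_smul]
    refine Mero.mk_congr ?_ ?_
    · have h1 := congrArg (L.presheaf.germ U y.1 y.2) ha
      rw [QCoh.germ_smul', germ_res'] at h1
      exact h1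
    · rw [mul_one]
      exact (X.presheaf.germ_res_apply _ y.1 y.2 b.1).symm
  have hu : IsUnit (frac a b') := DivX.isUnit_of_smul_injective _ fun V hV r hr => by
    refine TopCat.Presheaf.section_ext X.sheaf _ _ _ fun y hy => Mero.algebraMap_KStalk_injective y ?_
    refine (hs y _ ?_).trans ((congrArg _ (map_zero (X.presheaf.germ V y hy).hom)).trans (map_zero _)).symm
    have h1 := congrArg (fun t : Γ(Mero.kmod X, V) => t.1 ⟨y, hy⟩) hr
    rw [DivX.smul_val, DivX.kRes_apply] at h1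
    rw [hval ⟨y, hV hy⟩, ← mul_smul]
    exact (congrArg (· • _) h1).trans (zero_smul (Mero.KStalk X y) _)
  exact ⟨U, ⟨hxW, hx₀⟩, _, he₀.res inf_le_right, hu.unit, hval⟩

/-- Compatible local generators and meromorphic units define a divisor with that module. -/
theorem exists_divisor_of_data (U : X → X.Opens) (hxU : ∀ x, x ∈ U x) (e : ∀ x, Γ(L, U x))
    (he : ∀ x, IsFrame (e x)) (f : ∀ x, (Γ(Mero.kmod X, U x))ˣ)
    (hcmp : ∀ (x x' y : X) (hy : y ∈ U x) (hy' : y ∈ U x') (c : X.presheaf.stalk y),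
      L.presheaf.germ (U x') y hy' (e x') = c • L.presheaf.germ (U x) y hy (e x) →
      (f x' : Γ(Mero.kmod X, U x')).1 ⟨y, hy'⟩ * algebraMap (X.presheaf.stalk y) (Mero.KStalk X y) c =
        (f x : Γ(Mero.kmod X, U x)).1 ⟨y, hy⟩) :
    ∃ D : Mero.Divisor X, Nonempty (L ≅ Mero.divMod D) ∧
      ∀ (x : X) (y : U x), D.1 y.1 = Mero.germOf (f x) y := by
  have hgerm : ∀ (x x' y : X) (hy : y ∈ U x) (hy' : y ∈ U x'),
      Mero.germOf (f x) ⟨y, hy⟩ = Mero.germOf (f x') ⟨y, hy'⟩ := by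
    intro x x' y hy hy'
    obtain ⟨c, hcy⟩ := ((he x).germ_bijective hy).2 (L.presheaf.germ (U x') y hy' (e x'))
    obtain ⟨c', hcy'⟩ := ((he x').germ_bijective hy').2 (L.presheaf.germ (U x) y hy (e x))
    have hu : c' * c = 1 := ((he x').germ_bijective hy').1 (by
      show _ • _ = _ • _
      rw [one_smul, mul_comm, mul_smul]
      exact (congrArg (c • ·) hcy').trans hcy)
    refine (QuotientGroup.eq.2 (MonoidHom.mem_range.2 ⟨Units.mk c c' (by rw [mul_comm]; exact hu) hu, ?_⟩)).symm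
    rw [eq_inv_mul_iff_mul_eq]
    exact Units.ext (hcmp x x' y hy hy' c hcy.symm)
  let D : Mero.Divisor X := ⟨fun y => Mero.germOf (f y) ⟨y, hxU y⟩, fun y =>
    ⟨U y, hxU y, f y, fun z => hgerm z.1 y z.1 (hxU _) z.2⟩⟩
  have hD : ∀ (x : X) (y : U x), D.1 y.1 = Mero.germOf (f x) y := fun x y => hgerm y.1 x y.1 (hxU _) y.2
  have hcov : ∀ y, ∃ a, y ∈ U a := fun y => ⟨y, hxU y⟩
  have hc : ∀ (a b : X) (W : X.Opens) (ha : W ≤ U a) (hb : W ≤ U b) (g : Γ(X, W)),
      AModX.res L hb (e b) = g • AModX.res L ha (e a) →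
      AModX.res (Mero.divMod D) hb (DivX.gen (f b) (hD b)) = g • AModX.res (Mero.divMod D) ha (DivX.gen (f a) (hD a)) := by
    intro a b W ha hb g hg
    refine Subtype.ext (funext fun y => ?_)
    have h1 := congrArg (L.presheaf.germ W y.1 y.2) hg
    rw [QCoh.germ_smul', germ_res', germ_res'] at h1
    have h2 := hcmp a b y.1 (ha y.2) (hb y.2) _ h1
    have h4 := DivX.unit_val_mul (f b) ⟨y.1, hb y.2⟩
    have h5 := DivX.unit_val_mul (f a) ⟨y.1, ha y.2⟩
    show (((f b)⁻¹ : (Γ(Mero.kmod X, U b))ˣ) : Γ(Mero.kmod X, U b)).1 ⟨y.1, hb y.2⟩ =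
      X.presheaf.germ W y.1 y.2 g • (((f a)⁻¹ : (Γ(Mero.kmod X, U a))ˣ) : Γ(Mero.kmod X, U a)).1 ⟨y.1, ha y.2⟩
    rw [Algebra.smul_def]
    linear_combination (((f a)⁻¹ : (Γ(Mero.kmod X, U a))ˣ) : Γ(Mero.kmod X, U a)).1 ⟨y.1, ha y.2⟩ *
        algebraMap (X.presheaf.stalk y.1) (Mero.KStalk X y.1) (X.presheaf.germ W y.1 y.2 g) * h4 -
      (((f b)⁻¹ : (Γ(Mero.kmod X, U b))ˣ) : Γ(Mero.kmod X, U b)).1 ⟨y.1, hb y.2⟩ *
        ((((f a)⁻¹ : (Γ(Mero.kmod X, U a))ˣ) : Γ(Mero.kmod X, U a)).1 ⟨y.1, ha y.2⟩ * h2 + h5)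
  haveI : IsIso (ofFrames (e := e) (n := fun x => DivX.gen (f x) (hD x)) hcov he hc) :=
    DivX.isIso_of_frames _ fun x => ⟨U x, hxU x, e x, he x, by
      rw [ofFrames_app]; exact DivX.isFrame_gen (f x) (hD x)⟩
  exact ⟨D, ⟨asIso (ofFrames (e := e) (n := fun x => DivX.gen (f x) (hD x)) hcov he hc)⟩, hD⟩

/-- An invertible module with a regular meromorphic section is the module of a divisor. -/
theorem exists_iso_divMod (hL : PicF.IsInvertible L) (h : Mero.HasRegularMero L) :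
    ∃ D : Mero.Divisor X, Nonempty (L ≅ Mero.divMod D) := by
  obtain ⟨s, hs⟩ := h
  have h' := fun x => exists_coeff s hs hL x
  choose U hxU e he f hf using h'
  obtain ⟨D, hiso, -⟩ := exists_divisor_of_data U hxU e he f fun x x' y hy hy' c hcy => by
    refine smul_frame_injective (he x) hy ?_
    show _ • _ = _ • _
    rw [mul_smul, algebraMap_smul, LocalizedModule.smul'_mk, ← hcy, ← hf x ⟨y, hy⟩, ← hf x' ⟨y, hy'⟩]
  exact ⟨D, hiso⟩

/-- A frame near the weakly associated points gives a divisor trivial there. -/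
theorem exists_divisor_of_frame (hfin : WFin X) (hL : PicF.IsInvertible L) {O : X.Opens}
    (hO : ∀ y, WA y → y ∈ O) {e₀ : Γ(L, O)} (he₀ : IsFrame e₀) :
    ∃ D : Mero.Divisor X, Nonempty (L ≅ Mero.divMod D) ∧ ∀ y ∈ O, D.1 y = 1 := by
  have hfr := fun x => exists_frame hL x
  choose U hxU e he using hfr
  have hφ := fun x => (he x).exists_coord (inf_le_left : U x ⊓ O ≤ U x) (AModX.res L inf_le_right e₀)
  choose φ hφ using hφ
  have hψ := fun x => he₀.exists_coord (inf_le_right : U x ⊓ O ≤ O) (AModX.res L inf_le_left (e x))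
  choose ψ hψ using hψ
  have h1 : ∀ x, φ x * ψ x = 1 := fun x => by
    refine he₀.coord_unique (inf_le_right : U x ⊓ O ≤ O) ?_
    rw [one_smul, mul_smul, ← hψ x]
    exact (hφ x).symm
  have hk := fun x => exists_extend hfin (inf_le_left : U x ⊓ O ≤ U x) (fun y hy hya => ⟨hy, hO y hya⟩) (φ x)
  choose k hk using hk
  have hk' := fun x => exists_extend hfin (inf_le_left : U x ⊓ O ≤ U x) (fun y hy hya => ⟨hy, hO y hya⟩) (ψ x)
  choose k' hk' using hk'
  have hku : ∀ x, IsUnit (k x) := fun x => IsUnit.of_mul_eq_one (k' x) (kmod_ext fun y hy => by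
    have h2 := congrArg (fun t : Γ(Mero.kmod X, U x ⊓ O) => t.1 ⟨y.1, y.2, hO y.1 hy⟩)
      ((map_mul (DivX.kRes inf_le_left) (k x) (k' x)).trans
        ((congrArg₂ (· * ·) (hk x) (hk' x)).trans
          ((map_mul _ _ _).symm.trans ((congrArg _ (h1 x)).trans (map_one _)))))
    exact h2)
  have hcmp : ∀ (x x' y : X) (hy : y ∈ U x) (hy' : y ∈ U x') (c : X.presheaf.stalk y),
      L.presheaf.germ (U x') y hy' (e x') = c • L.presheaf.germ (U x) y hy (e x) →
      (k x').1 ⟨y, hy'⟩ * algebraMap (X.presheaf.stalk y) (Mero.KStalk X y) c = (k x).1 ⟨y, hy⟩ := by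
    intro x x' y hy hy' c hcy
    obtain ⟨g, hg⟩ := (he x).exists_coord (inf_le_left : U x ⊓ U x' ≤ U x) (AModX.res L inf_le_right (e x'))
    have hcg : c = X.presheaf.germ (U x ⊓ U x') y ⟨hy, hy'⟩ g := by
      refine ((he x).germ_bijective hy).1 ?_
      have h2 := congrArg (L.presheaf.germ (U x ⊓ U x') y ⟨hy, hy'⟩) hg
      rw [QCoh.germ_smul', germ_res', germ_res'] at h2
      exact hcy.symm.trans h2
    have key : DivX.kRes (inf_le_right : U x ⊓ U x' ≤ U x') (k x') * Mero.toK X _ g =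
        DivX.kRes (inf_le_left : U x ⊓ U x' ≤ U x) (k x) := kmod_ext fun z hza => by
      have hzO : z.1 ∈ O := hO z.1 hza
      have a1 := congrArg (fun t : Γ(Mero.kmod X, U x ⊓ O) => t.1 ⟨z.1, z.2.1, hzO⟩) (hk x)
      have a2 := congrArg (fun t : Γ(Mero.kmod X, U x' ⊓ O) => t.1 ⟨z.1, z.2.2, hzO⟩) (hk x')
      simp only [DivX.kRes_apply, DivX.toK_val] at a1 a2
      rw [Mero.kmod_mul_apply, DivX.kRes_apply, DivX.kRes_apply, DivX.toK_val, a1, a2, ← map_mul]
      refine congrArg _ (((he x).germ_bijective z.2.1).1 ?_)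
      have b1 := congrArg (L.presheaf.germ (U x ⊓ O) z.1 ⟨z.2.1, hzO⟩) (hφ x)
      have b2 := congrArg (L.presheaf.germ (U x' ⊓ O) z.1 ⟨z.2.2, hzO⟩) (hφ x')
      have b3 := congrArg (L.presheaf.germ (U x ⊓ U x') z.1 z.2) hg
      rw [QCoh.germ_smul', germ_res', germ_res'] at b1 b2 b3
      show _ • _ = _ • _
      rw [mul_smul, ← b3, ← b2, b1]
    have h2 := congrArg (fun t : Γ(Mero.kmod X, U x ⊓ U x') => t.1 ⟨y, hy, hy'⟩) key
    rw [hcg]
    simpa only [Mero.kmod_mul_apply, DivX.kRes_apply, DivX.toK_val] using h2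
  obtain ⟨D, hiso, hD⟩ := exists_divisor_of_data U hxU e he (fun x => (hku x).unit) hcmp
  refine ⟨D, hiso, fun y hy => ?_⟩
  rw [hD y ⟨y, hxU y⟩]
  refine (QuotientGroup.eq_one_iff _).2 ⟨⟨X.presheaf.germ (U y ⊓ O) y ⟨hxU y, hy⟩ (φ y),
    X.presheaf.germ (U y ⊓ O) y ⟨hxU y, hy⟩ (ψ y), by rw [← map_mul, h1, map_one],
    by rw [← map_mul, mul_comm, h1, map_one]⟩, Units.ext ?_⟩
  exact (congrArg (fun t : Γ(Mero.kmod X, U y ⊓ O) => t.1 ⟨y, hxU y, hy⟩) (hk y)).symm

/-- A frame near the weakly associated points gives a regular meromorphic section. -/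
theorem hasRegularMero_of_frame (hfin : WFin X) (hL : PicF.IsInvertible L) {O : X.Opens}
    (hO : ∀ y, WA y → y ∈ O) {e₀ : Γ(L, O)} (he₀ : IsFrame e₀) : Mero.HasRegularMero L :=
  let ⟨D, ⟨φ⟩, _⟩ := exists_divisor_of_frame hfin hL hO he₀
  hasRegularMero_of_iso D φ

/-- Some weakly associated point generizes each point. -/
theorem exists_WA_generization (hfin : WFin X) {V : X.Opens} (hV : IsAffineOpen V) {w : X} (hw : w ∈ V) :
    ∃ g, g ⤳ w ∧ WA g := by
  by_contra hne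
  push Not at hne
  let Z : X.Opens := V ⊓ ⟨(⋃ y ∈ {y : X | y ∈ V ∧ WA y}, closure ({y} : Set X))ᶜ,
    ((hfin ⟨V, hV⟩).isClosed_biUnion fun y _ => isClosed_closure).isOpen_compl⟩
  have hwZ : w ∈ Z := by
    refine ⟨hw, fun h => ?_⟩
    obtain ⟨y, hy, hyw⟩ := Set.mem_iUnion₂.1 h
    exact hne y (specializes_iff_mem_closure.2 hyw) hy.2
  obtain ⟨y, hyZ, hy⟩ := exists_WA_mem hwZ
  exact hyZ.2 (Set.mem_iUnion₂.2 ⟨y, ⟨hyZ.1, hy⟩, subset_closure rfl⟩)

/-- Without specializations among weakly associated points there is a frame near all of them. -/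
theorem exists_frame_of_no_embedded (hfin : WFin X) (hL : PicF.IsInvertible L)
    (hne : ∀ y z : X, WA y → WA z → y ⤳ z → y = z) :
    ∃ (O : X.Opens) (e : Γ(L, O)), IsFrame e ∧ ∀ y, WA y → y ∈ O := by
  let S : Type u := {y : X // WA y}
  have hloc : ∀ y : S, ∃ (W : X.Opens) (_ : y.1 ∈ W) (e : Γ(L, W)),
      IsFrame e ∧ ∀ g, WA g → g ∈ W → g = y.1 := by
    intro y
    obtain ⟨U, hyU, e, he⟩ := exists_frame hL y.1
    obtain ⟨V, hV, hyV, hVU⟩ := exists_isAffineOpen_mem_and_subset (x := y.1) (U := U) hyU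
    let W : X.Opens := V ⊓ ⟨(⋃ z ∈ ({z : X | z ∈ V ∧ WA z} \ {y.1}), closure ({z} : Set X))ᶜ,
      ((hfin ⟨V, hV⟩).sdiff.isClosed_biUnion fun z _ => isClosed_closure).isOpen_compl⟩
    refine ⟨W, ⟨hyV, fun h => ?_⟩, AModX.res L ((inf_le_left : W ≤ V).trans hVU) e, he.res _, fun g hg hgW => ?_⟩
    · obtain ⟨z, hz, hzy⟩ := Set.mem_iUnion₂.1 h
      exact hz.2 (hne z y.1 hz.1.2 y.2 (specializes_iff_mem_closure.2 hzy))
    · by_contra h
      exact hgW.2 (Set.mem_iUnion₂.2 ⟨g, ⟨⟨hgW.1, hg⟩, h⟩, subset_closure rfl⟩)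
  choose W hyW e he hWe using hloc
  have hdisj : ∀ (y y' : S) (w : X), w ∈ W y → w ∈ W y' → y = y' := by
    intro y y' w hw hw'
    obtain ⟨V, hV, hwV, -⟩ := exists_isAffineOpen_mem_and_subset (x := w) (U := ⊤) trivial
    obtain ⟨g, hgw, hg⟩ := exists_WA_generization hfin hV hwV
    exact Subtype.ext ((hWe y g hg (hgw.mem_open (W y).2 hw)).symm.trans (hWe y' g hg (hgw.mem_open (W y').2 hw')))
  obtain ⟨e₀, he₀, -⟩ := AModX.existsUnique_glue (M := L) (V := iSup W) W (fun y => le_iSup W y)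
    (fun p hp => Opens.mem_iSup.1 hp) e fun y y' => by
      refine AModX.eq_of_locally _ _ fun p hp => ⟨_, le_rfl, hp, ?_⟩
      obtain rfl := hdisj y y' p hp.1 hp.2
      rfl
  refine ⟨iSup W, e₀, isFrame_of_germ fun p hp => ?_, fun y hy => Opens.mem_iSup.2 ⟨⟨y, hy⟩, hyW _⟩⟩
  obtain ⟨y, hpy⟩ := Opens.mem_iSup.1 hp
  have h1 := congrArg (L.presheaf.germ (W y) p hpy) (he₀ y)
  rw [germ_res'] at h1
  rw [h1]
  exact (he y).germ_bijective hpy

/-- Weakly associated points inside an affine open admit a common frame. -/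
theorem exists_frame_of_affine (hfin : WFin X) (hL : PicF.IsInvertible L) {W : X.Opens} (hW : IsAffineOpen W)
    (hWA : ∀ y, WA y → y ∈ W) : ∃ (O : X.Opens) (e : Γ(L, O)), IsFrame e ∧ ∀ y, WA y → y ∈ O := by
  classical
  let S : Type u := {y : X // y ∈ W ∧ WA y}
  haveI : Finite S := (hfin ⟨W, hW⟩).to_subtype
  haveI : Fintype S := Fintype.ofFinite S
  let p : S → Ideal Γ(X, W) := fun y => (hW.primeIdealOf ⟨y.1, y.2.1⟩).asIdeal
  have hpinj : Function.Injective p := fun a b hab => Subtype.ext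
    (((AssPtX.primeIdealOf_le_iff hW a.2.1 b.2.1).1 hab.le).antisymm
      ((AssPtX.primeIdealOf_le_iff hW b.2.1 a.2.1).1 hab.ge)).eq
  let T : Type u := {i : S // ∀ j : S, p i ≤ p j → i = j}
  have hLq := ProjUPX.isQCoh_of_isInvertible hL
  have he : ∀ i : T, ∃ m : Γ(L, W), ∀ (U : X.Opens) (hU : i.1.1 ∈ U) (ε : Γ(L, U)), IsFrame ε →
      ∃ c : X.presheaf.stalk i.1.1, IsUnit c ∧
        L.presheaf.germ W i.1.1 i.1.2.1 m = c • L.presheaf.germ U i.1.1 hU ε := by
    intro i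
    obtain ⟨U₀, hU₀, ε₀, hε₀⟩ := exists_frame hL i.1.1
    letI := QCoh.stalkModule L i.1.2.1
    haveI := QCoh.isLocalizedModule_germLin hLq hW i.1.2.1
    obtain ⟨⟨m, s⟩, hms⟩ := IsLocalizedModule.surj (hW.primeIdealOf ⟨i.1.1, i.1.2.1⟩).asIdeal.primeCompl
      (QCoh.germLin L i.1.2.1) (L.presheaf.germ U₀ i.1.1 hU₀ ε₀)
    refine ⟨m, fun U hU ε hε => ?_⟩
    obtain ⟨c, hc⟩ := (hε.germ_bijective hU).2 (L.presheaf.germ U₀ i.1.1 hU₀ ε₀)
    obtain ⟨c', hc'⟩ := (hε₀.germ_bijective hU₀).2 (L.presheaf.germ U i.1.1 hU ε)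
    have hcu : IsUnit c := IsUnit.of_mul_eq_one c' ((hε.germ_bijective hU).1 (by
      show _ • _ = _ • _
      rw [one_smul, mul_comm, mul_smul]
      exact (congrArg (c' • ·) hc).trans hc'))
    refine ⟨X.presheaf.germ W i.1.1 i.1.2.1 s.1 * c, IsUnit.mul ?_ hcu, ?_⟩
    · exact (X.mem_basicOpen s.1 _ _).1 ((QCoh.mem_basicOpen_iff_notMem hW i.1.2.1 s.1).2 s.2)
    · rw [mul_smul]
      exact hms.symm.trans (congrArg (_ • ·) hc.symm)
  choose m hm using he
  have hc : ∀ i : T, ∃ c : Γ(X, W), c ∉ p i.1 ∧ ∀ j : T, j ≠ i → c ∈ p j.1 := by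
    intro i
    have hsep : ∀ j : T, ∃ a : Γ(X, W), a ∉ p i.1 ∧ (j ≠ i → a ∈ p j.1) := fun j => by
      by_cases h : j = i
      · exact ⟨1, fun h1 => (hW.primeIdealOf ⟨i.1.1, i.1.2.1⟩).2.ne_top ((Ideal.eq_top_iff_one _).2 h1),
          fun h' => absurd h h'⟩
      · obtain ⟨a, ha, ha'⟩ := Set.not_subset.1 (fun hle : (p j.1 : Set Γ(X, W)) ⊆ p i.1 => h (Subtype.ext (j.2 i.1 hle)))
        exact ⟨a, ha', fun _ => ha⟩
    choose a ha ha' using hsep
    refine ⟨∏ j, a j, fun h => ?_, fun j hj => Ideal.prod_mem (p j.1) (Finset.mem_univ j) (ha' j hj)⟩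
    obtain ⟨j, -, hj⟩ := (hW.primeIdealOf ⟨i.1.1, i.1.2.1⟩).2.prod_mem_iff.1 h
    exact ha j hj
  choose c hc hc' using hc
  let e : Γ(L, W) := ∑ i, c i • m i
  let C : Set X.Opens := {V | ∃ hV : V ≤ W, IsFrame (AModX.res L hV e)}
  have hCW : sSup C ≤ W := sSup_le fun V hV => hV.1
  have hT : ∀ i : T, i.1.1 ∈ sSup C := by
    intro i
    obtain ⟨U, hU, ε, hε⟩ := exists_frame hL i.1.1
    obtain ⟨r, hr⟩ := hε.exists_coord (inf_le_right : W ⊓ U ≤ U) (AModX.res L inf_le_left e)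
    have hru : IsUnit (X.presheaf.germ (W ⊓ U) i.1.1 ⟨i.1.2.1, hU⟩ r) := by
      have hj : ∀ j : T, ∃ d : X.presheaf.stalk i.1.1,
          L.presheaf.germ W i.1.1 i.1.2.1 (m j) = d • L.presheaf.germ U i.1.1 hU ε :=
        fun j => ((hε.germ_bijective hU).2 _).imp fun _ h => h.symm
      choose d hd using hj
      have h1 := congrArg (L.presheaf.germ (W ⊓ U) i.1.1 ⟨i.1.2.1, hU⟩) hr
      rw [QCoh.germ_smul', germ_res', germ_res'] at h1
      have h2 : X.presheaf.germ (W ⊓ U) i.1.1 ⟨i.1.2.1, hU⟩ r =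
          ∑ j, X.presheaf.germ W i.1.1 i.1.2.1 (c j) * d j := by
        refine (hε.germ_bijective hU).1 ?_
        show _ • _ = _ • _
        rw [← h1, map_sum, Finset.sum_smul]
        exact Finset.sum_congr rfl fun j _ => by rw [QCoh.germ_smul', hd j, mul_smul]
      rw [h2, ← Finset.add_sum_erase _ _ (Finset.mem_univ i)]
      have hsmall : ¬ IsUnit (∑ j ∈ Finset.univ.erase i, X.presheaf.germ W i.1.1 i.1.2.1 (c j) * d j) := by
        refine (IsLocalRing.mem_maximalIdeal _).1 (Ideal.sum_mem _ fun j hj => Ideal.mul_mem_right _ _ ?_)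
        refine (IsLocalRing.mem_maximalIdeal _).2 fun hu => ?_
        exact (QCoh.mem_basicOpen_iff_notMem hW i.1.2.1 (c j)).1 ((X.mem_basicOpen _ _ _).2 hu)
          (hc' j i (Finset.ne_of_mem_erase hj).symm)
      have hbig : IsUnit (X.presheaf.germ W i.1.1 i.1.2.1 (c i) * d i) := by
        obtain ⟨d', hd', hd''⟩ := hm i U hU ε hε
        rw [(hε.germ_bijective hU).1 ((hd i).symm.trans hd'')]
        exact IsUnit.mul ((X.mem_basicOpen _ _ _).1 ((QCoh.mem_basicOpen_iff_notMem hW i.1.2.1 _).2 (hc i))) hd'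
      by_contra hcon
      refine (IsLocalRing.mem_maximalIdeal _).1 ?_ hbig
      have := Ideal.sub_mem _ ((IsLocalRing.mem_maximalIdeal _).2 hcon) ((IsLocalRing.mem_maximalIdeal _).2 hsmall)
      rwa [add_sub_cancel_right] at this
    refine Opens.mem_sSup.2 ⟨X.basicOpen r, ⟨(X.basicOpen_le r).trans inf_le_left, ?_⟩,
      (X.mem_basicOpen r _ _).2 hru⟩
    have h2 : AModX.res L ((X.basicOpen_le r).trans inf_le_left) e =
        AModX.resR (X.basicOpen_le r) r • AModX.res L ((X.basicOpen_le r).trans inf_le_right) ε := by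
      rw [← AModX.res_res (inf_le_left : W ⊓ U ≤ W) (X.basicOpen_le r), hr, AModX.res_smul, AModX.res_res]
    rw [h2]
    exact (hε.res _).isUnit_smul (X.toRingedSpace.isUnit_res_basicOpen r)
  refine ⟨sSup C, AModX.res L hCW e, isFrame_of_germ fun q hq => ?_, fun y hy => ?_⟩
  · obtain ⟨V, ⟨hV, hVf⟩, hqV⟩ := Opens.mem_sSup.1 hq
    rw [germ_res', ← germ_res' hV hqV]
    exact hVf.germ_bijective hqV
  · obtain ⟨q, hij, ⟨i, rfl⟩, hi⟩ := (Set.finite_range p).exists_le_maximal (Set.mem_range_self (⟨y, hWA y hy, hy⟩ : S))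
    have hiT : ∀ j : S, p i ≤ p j → i = j := fun j hj => hpinj (le_antisymm hj (hi (Set.mem_range_self j) hj))
    exact ((AssPtX.primeIdealOf_le_iff hW (hWA y hy) i.2.1).1 hij).mem_open (sSup C).2 (hT ⟨i, hiT⟩)

end Groth.Agent.Div57.KRegMero
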