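import Groth.Agent.Div57.DivisorSupp
import Groth.Agent.Div57.Desc.Sheaf
import Mathlib.RingTheory.Nakayama

/-!
# The divisorial part of a closed subscheme
-/

universe u

set_option autoImplicit false
set_option backward.isDefEq.respectTransparency false
set_option backward.isDefEq.respectTransparency.types false
set_option linter.style.haveILetI false

open CategoryTheory AlgebraicGeometry TopologicalSpace Groth.Agent

namespace Groth.Agent.Div57

variable {X : Scheme.{u}}

theorem stI_mul (D E : X.IdealSheafData) (x : X) : stI (D * E) x = stI D x * stI E x := by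
  obtain ⟨U, hU, hxU⟩ := exists_aff x
  rw [stI_eq _ ⟨U, hU⟩ hxU, stI_eq D ⟨U, hU⟩ hxU, stI_eq E ⟨U, hU⟩ hxU, Scheme.IdealSheafData.ideal_mul,
    Pi.mul_apply, Ideal.map_mul]

theorem two_le_coheight_of_mem [IsLocallyNoetherian X] {D : X.IdealSheafData} (hD : BlowUp.IsEffCartierIdeal D)
    [IsIntegral D.subscheme] {z : X} (hz : z ∈ D.support) (hne : z ≠ D.subschemeι (genericPoint ↥D.subscheme)) :
    2 ≤ Order.coheight z := by
  have hr : z ∈ Set.range D.subschemeι := by rw [Scheme.IdealSheafData.range_subschemeι]; exact hz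
  obtain ⟨w, hw⟩ := hr
  subst hw
  have h1 : D.subschemeι (genericPoint ↥D.subscheme) ⤳ D.subschemeι w :=
    (genericPoint_specializes w).map D.subschemeι.continuous
  have hlt : D.subschemeι w < D.subschemeι (genericPoint ↥D.subscheme) :=
    lt_iff_le_not_ge.2 ⟨h1, fun (h : D.subschemeι w ⤳ _) => hne (h.antisymm h1).eq⟩
  have hη : D.subschemeι (genericPoint ↥D.subscheme) ∈ D.support := by
    rw [← SetLike.mem_coe, ← Scheme.IdealSheafData.range_subschemeι]; exact ⟨_, rfl⟩
  have h2 := Order.coheight_add_one_le hlt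
  exact le_trans (show (2 : ℕ∞) = 1 + 1 by norm_num).le ((add_le_add (one_le_coheight hD hη) le_rfl).trans h2)

theorem exists_max_generization [IsLocallyNoetherian X] {Z' : Set X} {z : X} (hz : z ∈ Z') :
    ∃ w, (w ∈ Z' ∧ w ⤳ z) ∧ ∀ y ∈ Z', y ⤳ w → y = w := by
  obtain ⟨w, hw, hmin⟩ := (InvImage.wf (fun w : X => Order.coheight w) wellFounded_lt).has_min
    {w | w ∈ Z' ∧ w ⤳ z} ⟨z, hz, specializes_rfl⟩
  refine ⟨w, hw, fun y hy hyw => by_contra fun hne => ?_⟩
  have hlt : w < y := lt_iff_le_not_ge.2 ⟨hyw, fun (h : w ⤳ y) => hne (hyw.antisymm h).eq⟩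
  refine hmin y ⟨hy, hyw.trans hw.2⟩ (Order.coheight_strictAnti hlt ?_)
  refine (le_top.trans_eq' rfl : Order.coheight y ≤ ⊤).lt_of_ne fun h => ?_
  rw [← CDiv6.height_primeOf hyw] at h
  exact Ideal.height_ne_top (CDiv6.primeOf hyw).2.ne_top h

theorem stI_top (x : X) : stI (⊤ : X.IdealSheafData) x = ⊤ := by
  obtain ⟨U, hU, hxU⟩ := exists_aff x
  rw [stI_eq _ ⟨U, hU⟩ hxU, Scheme.IdealSheafData.ideal_top, Pi.top_apply, Ideal.map_top]

/-- Away from codimension two a closed subscheme covered by integral divisors is a sum of them. -/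
theorem exists_divisor_part [IsNoetherian X] {I : Type u} (Ds : I → X.IdealSheafData)
    (hDs : ∀ i, BlowUp.IsEffCartierIdeal (Ds i)) (hint : ∀ i, IsIntegral (Ds i).subscheme)
    (Z' : Set X) (hZ' : ∀ z ∈ Z', 2 ≤ Order.coheight z) :
    ∀ Z : X.IdealSheafData, (Z.support : Set X) ⊆ Z' ∪ ⋃ i, ((Ds i).support : Set X) →
      ∃ (a : I →₀ ℕ) (U : X.Opens), Z ≤ a.prod (fun i n => Ds i ^ n) ∧
        (∀ z ∈ U, stI (a.prod (fun i n => Ds i ^ n)) z = stI Z z) ∧
        ∀ z : X, z ∉ U → z ∈ Z.support ∧ 2 ≤ Order.coheight z := by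
  intro Z
  induction Z using (H23.FinCondSch.wellFoundedGT (X := X)).wf.induction with
  | h Z ih =>
    intro hsub
    let g : I → X := fun i => haveI := hint i; (Ds i).subschemeι (genericPoint ↥(Ds i).subscheme)
    by_cases hη : ∃ i, g i ∈ Z.support
    · obtain ⟨i, hi⟩ := hη
      haveI := hint i
      have hle : Z ≤ Ds i := le_of_genericPoint_mem hi
      have hQ := ModPairLib.colon_mul (hDs i) hle
      have hQ' := (mul_comm _ _).trans hQ
      set Q := ModPairLib.colon Z (Ds i) (ModPairLib.isLocPrincipal_of_isEffCartier (hDs i))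
      have hZQ : Z ≤ Q := fun U a ha => by
        rw [← hQ, Scheme.IdealSheafData.ideal_mul, Pi.mul_apply] at ha
        exact Ideal.mul_le_left ha
      have hne : Z ≠ Q := fun h => by
        set η := (Ds i).subschemeι (genericPoint ↥(Ds i).subscheme)
        obtain ⟨t, ht, hIt⟩ := stI_of_effCartier (Ds i) (hDs i) η
        have hηS : η ∈ (Ds i).support := by
          rw [← SetLike.mem_coe, ← Scheme.IdealSheafData.range_subschemeι]; exact ⟨_, rfl⟩
        have h1 : stI Z η = stI (Ds i) η * stI Z η := by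
          rw [← stI_mul]
          nth_rewrite 2 [h]
          rw [hQ']
        have h0 : stI Z η = ⊥ := by
          refine Submodule.eq_bot_of_le_smul_of_le_jacobson_bot (stI (Ds i) η) _ (IsNoetherian.noetherian _) h1.le ?_
          rw [IsLocalRing.jacobson_eq_maximalIdeal ⊥ bot_ne_top]
          exact IsLocalRing.le_maximalIdeal ((mem_support_iff _).1 hηS)
        obtain ⟨P, hP, -⟩ := Ideal.exists_minimalPrimes_le
          (show (⊥ : Ideal (X.presheaf.stalk η)) ≤ IsLocalRing.maximalIdeal _ from bot_le)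
        haveI := hP.1.1
        obtain ⟨ξ, hξ, hξP⟩ := H23.StalkPrimes.exists_point P
        have hξ0 : Order.coheight ξ = 0 := by
          rw [← CDiv6.height_primeOf hξ, hξP]
          exact Ideal.height_eq_zero_iff.2 hP
        have hξS : ξ ∈ Z.support := (mem_support_iff _).2 fun htop => by
          rw [← stI_map Z hξ, h0, Ideal.map_bot] at htop
          exact bot_ne_top htop
        rcases hsub hξS with hz | hz
        · have := hZ' ξ hz; rw [hξ0] at this; exact absurd this (by norm_num)
        · obtain ⟨j, hj⟩ := Set.mem_iUnion.1 hz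
          have := one_le_coheight (hDs j) hj; rw [hξ0] at this; exact absurd this (by norm_num)
      obtain ⟨a, U, haQ, hU, hcompl⟩ := ih Q (lt_of_le_of_ne hZQ hne)
        (Set.Subset.trans (Scheme.IdealSheafData.support_antitone hZQ) hsub)
      have hprod : (a + Finsupp.single i 1).prod (fun i n => Ds i ^ n) = Ds i * a.prod (fun i n => Ds i ^ n) := by
        rw [Finsupp.prod_add_index' (fun _ => pow_zero _) (fun _ _ _ => pow_add _ _ _),
          mul_comm]
        simp
      refine ⟨a + Finsupp.single i 1, U, ?_, fun z hz => ?_, fun z hz =>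
        ⟨Scheme.IdealSheafData.support_antitone hZQ (hcompl z hz).1, (hcompl z hz).2⟩⟩
      · rw [hprod, ← hQ']
        intro V
        rw [Scheme.IdealSheafData.ideal_mul, Scheme.IdealSheafData.ideal_mul, Pi.mul_apply, Pi.mul_apply]
        exact Ideal.mul_mono le_rfl (haQ V)
      · rw [hprod, ← hQ', stI_mul, stI_mul, hU z hz]
    · push Not at hη
      refine ⟨0, Z.support.compl, ?_, fun z hz => ?_, fun z hz => ?_⟩
      · rw [Finsupp.prod_zero_index, Scheme.IdealSheafData.one_eq_top]
        exact le_top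
      · rw [Finsupp.prod_zero_index, Scheme.IdealSheafData.one_eq_top, stI_top]
        exact (by_contra fun h => hz ((mem_support_iff _).2 h) : stI Z z = ⊤).symm
      · have hzS : z ∈ Z.support := not_not.1 hz
        refine ⟨hzS, ?_⟩
        rcases hsub hzS with h | h
        · exact hZ' z h
        · obtain ⟨j, hj⟩ := Set.mem_iUnion.1 h
          haveI := hint j
          exact two_le_coheight_of_mem (hDs j) hj fun e => hη j ((show z = g j from e) ▸ hzS)

end Groth.Agent.Div57
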