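import Groth.Agent.Div57.StIdeal
import Groth.Agent.ModPairLib.Quot
import Groth.Agent.H23.FinCondSch
import Mathlib.RingTheory.Ideal.KrullsHeightTheorem
import Mathlib.RingTheory.Ideal.MinimalPrime.Localization

/-!
# Supports of effective Cartier divisors
-/

universe u

set_option autoImplicit false
set_option backward.isDefEq.respectTransparency false
set_option backward.isDefEq.respectTransparency.types false
set_option linter.style.haveILetI false

open CategoryTheory AlgebraicGeometry TopologicalSpace Groth.Agent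

namespace Groth.Agent.Div57

variable {X : Scheme.{u}} [IsLocallyNoetherian X] {D : X.IdealSheafData}

theorem one_le_coheight (hD : BlowUp.IsEffCartierIdeal D) {x : X} (hx : x ∈ D.support) :
    1 ≤ Order.coheight x := by
  obtain ⟨f, hf, hI⟩ := stI_of_effCartier D hD x
  rw [Order.one_le_iff_pos, pos_iff_ne_zero]
  intro h0
  have hfm : f ∈ IsLocalRing.maximalIdeal (X.presheaf.stalk x) := fun hu =>
    (mem_support_iff D).1 hx (hI.trans (Ideal.span_singleton_eq_top.2 hu))
  have hmin : IsLocalRing.maximalIdeal (X.presheaf.stalk x) ∈ minimalPrimes (X.presheaf.stalk x) := by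
    refine Ideal.mem_minimalPrimes_of_height_le (I := ⊥) bot_le ?_
    have h1 := ringKrullDim_stalk_eq_coheight x
    rw [← IsLocalRing.maximalIdeal_height_eq_ringKrullDim, h0] at h1
    have h2 : (IsLocalRing.maximalIdeal (X.presheaf.stalk x)).height = 0 := by exact_mod_cast h1
    rw [h2]
    exact zero_le
  exact Set.disjoint_left.1 (Ideal.disjoint_nonZeroDivisors_of_mem_minimalPrimes hmin) hfm hf

/-- Every point of the support is a specialisation of one of codimension one in the support. -/
theorem exists_codim_one (hD : BlowUp.IsEffCartierIdeal D) {x : X} (hx : x ∈ D.support) :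
    ∃ y : X, y ⤳ x ∧ y ∈ D.support ∧ Order.coheight y = 1 := by
  obtain ⟨f, hf, hI⟩ := stI_of_effCartier D hD x
  obtain ⟨P, hP, -⟩ := Ideal.exists_minimalPrimes_le
    (show Ideal.span {f} ≤ IsLocalRing.maximalIdeal (X.presheaf.stalk x) from
      hI ▸ IsLocalRing.le_maximalIdeal ((mem_support_iff D).1 hx))
  haveI := hP.1.1
  obtain ⟨y, hy, hyP⟩ := H23.StalkPrimes.exists_point P
  have hyS : y ∈ D.support := (mem_support_iff D).2 fun h => by
    have h1 : (stI D x).map (X.presheaf.stalkSpecializes hy).hom ≤ IsLocalRing.maximalIdeal _ := by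
      rw [hI, Ideal.map_le_iff_le_comap]
      exact hP.1.2.trans hyP.ge
    rw [stI_map, h] at h1
    exact h1 (Submodule.mem_top (x := (1 : X.presheaf.stalk y))) isUnit_one
  refine ⟨y, hy, hyS, le_antisymm ?_ (one_le_coheight hD hyS)⟩
  rw [← CDiv6.height_primeOf hy, hyP]
  exact Ideal.height_le_one_of_isPrincipal_of_mem_minimalPrimes _ P hP

omit [IsLocallyNoetherian X] in
/-- An integral closed subscheme contains any ideal vanishing at its generic point. -/
theorem le_of_genericPoint_mem {E : X.IdealSheafData} [IsIntegral E.subscheme]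
    (h : E.subschemeι (genericPoint ↥E.subscheme) ∈ D.support) : D ≤ E := by
  intro V a ha
  rw [← Scheme.IdealSheafData.ker_subschemeι E, Scheme.Hom.ker_apply, RingHom.mem_ker,
    ← basicOpen_eq_bot_iff, ← Scheme.preimage_basicOpen]
  by_contra hne
  obtain ⟨z, hz⟩ : ((E.subschemeι ⁻¹ᵁ X.basicOpen a : E.subscheme.Opens) : Set ↥E.subscheme).Nonempty :=
    Set.nonempty_iff_ne_empty.2 fun h0 => hne (Opens.ext h0)
  have hη : E.subschemeι (genericPoint ↥E.subscheme) ∈ X.basicOpen a :=
    (genericPoint_specializes z).mem_open (E.subschemeι ⁻¹ᵁ X.basicOpen a).2 hz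
  have hV := X.basicOpen_le a hη
  rw [Scheme.IdealSheafData.mem_support_iff_of_mem hV, Scheme.mem_zeroLocus_iff] at h
  exact h a ha hη

omit [IsLocallyNoetherian X] in
theorem exists_eq_prod [IsNoetherian X] {r : ℕ} (Ds : Fin r → X.IdealSheafData)
    (hDs : ∀ i, BlowUp.IsEffCartierIdeal (Ds i)) (hint : ∀ i, IsIntegral (Ds i).subscheme) :
    ∀ D : X.IdealSheafData, BlowUp.IsEffCartierIdeal D → (D.support : Set X) ⊆ ⋃ i, ((Ds i).support : Set X) →
      ∃ a : Fin r → ℕ, D = ∏ i, Ds i ^ a i := by
  intro D
  induction D using (H23.FinCondSch.wellFoundedGT (X := X)).wf.induction with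
  | h D ih =>
    intro hD hsub
    by_cases htop : D = ⊤
    · refine ⟨0, ?_⟩
      rw [htop, ← Scheme.IdealSheafData.one_eq_top]
      exact (Finset.prod_eq_one fun i _ => pow_zero (Ds i)).symm
    obtain ⟨x, hx⟩ : (D.support : Set X).Nonempty := Set.nonempty_iff_ne_empty.2 fun h =>
      htop ((Scheme.IdealSheafData.support_eq_bot_iff D).1 (SetLike.coe_injective h))
    obtain ⟨y, -, hyS, hy1⟩ := exists_codim_one hD hx
    obtain ⟨i, hi⟩ := Set.mem_iUnion.1 (hsub hyS)
    haveI := hint i
    set η := (Ds i).subschemeι (genericPoint ↥(Ds i).subscheme)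
    have hηS : η ∈ (Ds i).support := by
      rw [← SetLike.mem_coe, ← Scheme.IdealSheafData.range_subschemeι]; exact ⟨_, rfl⟩
    have hηy : η ⤳ y := by
      rw [← Scheme.IdealSheafData.range_subschemeι] at hi
      obtain ⟨w, rfl⟩ := hi
      exact (genericPoint_specializes w).map (Ds i).subschemeι.continuous
    have heq : y = η := by
      by_contra hne
      have hlt : y < η := lt_iff_le_not_ge.2
        ⟨hηy, fun (h : y ⤳ η) => hne (h.antisymm hηy).eq⟩
      have h2 := Order.coheight_add_one_le hlt
      have h3 := one_le_coheight (hDs i) hηS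
      rw [hy1] at h2
      exact absurd (le_trans (add_le_add h3 le_rfl) h2) (by norm_num)
    have hle : D ≤ Ds i := le_of_genericPoint_mem (show η ∈ D.support by rw [← heq]; exact hyS)
    have hQ := ModPairLib.colon_mul (hDs i) hle
    set Q := ModPairLib.colon D (Ds i) (ModPairLib.isLocPrincipal_of_isEffCartier (hDs i))
    have hQc : BlowUp.IsEffCartierIdeal Q := ModPairLib.isEffCartier_of_mul (hDs i) (hQ.symm ▸ hD)
    have hDQ : D ≤ Q := fun U a ha => by
      rw [← hQ, Scheme.IdealSheafData.ideal_mul, Pi.mul_apply] at ha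
      exact Ideal.mul_le_left ha
    have hne : D ≠ Q := fun h => by
      have h1 : Ds i * D = ⊤ * D := by
        rw [Scheme.IdealSheafData.top_mul, mul_comm]
        nth_rewrite 2 [← hQ]
        rw [← h]
      have h2 := ModPairLib.eq_of_mul_eq_mul hD h1
      rw [h2, Scheme.IdealSheafData.support_top] at hηS
      exact hηS
    obtain ⟨a, ha⟩ := ih Q (lt_of_le_of_ne hDQ hne) hQc
      (Set.Subset.trans (Scheme.IdealSheafData.support_antitone hDQ) hsub)
    refine ⟨a + Pi.single i 1, ?_⟩
    rw [← hQ, ha]
    simp only [Pi.add_apply, pow_add, Finset.prod_mul_distrib]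
    congr 1
    rw [Finset.prod_eq_single i (fun j _ hj => by rw [Pi.single_eq_of_ne hj, pow_zero])
      (fun h => absurd (Finset.mem_univ i) h), Pi.single_eq_same, pow_one]

end Groth.Agent.Div57
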