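import Groth.Agent.Div57.RelLocPrincipal

/-!
# Containment of flat closed subschemes can be checked on fibres over a reduced base
-/

universe u

set_option autoImplicit false
set_option backward.isDefEq.respectTransparency false
set_option backward.isDefEq.respectTransparency.types false
set_option linter.style.haveILetI false

open CategoryTheory AlgebraicGeometry IsLocalRing Groth.Agent

namespace Groth.Agent.Div57.FibreLe

variable {X T : Scheme.{u}}

/-- The maximal ideal of the local ring at a minimal prime of a reduced ring is zero. -/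
theorem maximalIdeal_eq_bot {A L : Type u} [CommRing A] [IsReduced A] [CommRing L] [Algebra A L]
    (p : Ideal A) [p.IsPrime] [IsLocalization.AtPrime L p] [IsLocalRing L] (hp : p ∈ minimalPrimes A) :
    maximalIdeal L = ⊥ := by
  haveI : IsReduced L := isReduced_localizationPreserves p.primeCompl L inferInstance
  have h := IsLocalization.AtPrime.radical_map_of_mem_minimalPrimes L p (⊥ : Ideal A) hp
  rw [Ideal.map_bot, IsLocalization.AtPrime.map_eq_maximalIdeal p L] at h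
  rw [← h]
  exact Ideal.isRadical_bot.radical

/-- In a flat algebra over a reduced Noetherian ring, zero is detected over the minimal primes. -/
theorem mem_of_minimalPrimes {A B : Type u} [CommRing A] [IsNoetherianRing A] [IsReduced A] [CommRing B]
    [Algebra A B] (I : Ideal B) [Module.Flat A (B ⧸ I)] (b : B)
    (h : ∀ p ∈ minimalPrimes A, ∀ Q : Ideal B, Q.IsPrime → Q.comap (algebraMap A B) = p →
      ∃ c, c ∉ Q ∧ c * b ∈ I) : b ∈ I := by
  let J : Ideal B := Submodule.colon I {b}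
  have hJ : ∀ r, r ∈ J ↔ r * b ∈ I := fun r => by
    rw [Submodule.mem_colon_singleton, smul_eq_mul]
  have hkey : ∀ p ∈ minimalPrimes A, ¬ J.comap (algebraMap A B) ≤ p := by
    intro p hp hle
    haveI := hp.1.1
    let S := p.primeCompl.map (algebraMap A B)
    obtain ⟨Q, hQ, hJQ, hQS⟩ := Ideal.exists_le_prime_disjoint J S (by
      rw [Set.disjoint_left]
      rintro _ hx ⟨a, ha, rfl⟩
      exact ha (hle hx))
    have hQp : Q.comap (algebraMap A B) = p := by
      refine le_antisymm (fun a ha => by_contra fun hap => ?_) (hp.2 ⟨inferInstance, bot_le⟩ ?_)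
      · exact Set.disjoint_left.1 hQS ha ⟨a, hap, rfl⟩
      · exact fun a ha => by_contra fun hap => Set.disjoint_left.1 hQS ha ⟨a, hap, rfl⟩
    obtain ⟨c, hc, hcb⟩ := h p hp Q hQ hQp
    exact hc (hJQ ((hJ c).2 hcb))
  have hfin : (minimalPrimes A).Finite := minimalPrimes.finite_of_isNoetherianRing A
  obtain ⟨a, haJ, ha⟩ : ∃ a ∈ J.comap (algebraMap A B), ∀ p ∈ minimalPrimes A, a ∉ p := by
    by_contra hne
    push Not at hne
    obtain ⟨p, hp, hle⟩ := (Ideal.subset_union_prime (s := hfin.toFinset) (f := id) ⊥ ⊥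
      (fun p hp _ _ => ((hfin.mem_toFinset).1 hp).1.1)).1 (fun a ha => by
        obtain ⟨p, hp, hap⟩ := hne a ha
        simp only [Set.mem_iUnion, hfin.coe_toFinset, id]
        exact ⟨p, hp, hap⟩)
    exact hkey p ((hfin.mem_toFinset).1 hp) hle
  have hnzd : a ∈ nonZeroDivisors A := mem_nonZeroDivisors_iff_right.2 fun z hz => by
    have : z ∈ sInf (minimalPrimes A) := Submodule.mem_sInf.2 fun p hp =>
      (hp.1.1.mem_or_mem (hz ▸ p.zero_mem : z * a ∈ p)).resolve_right (ha p hp)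
    rw [show minimalPrimes A = (⊥ : Ideal A).minimalPrimes from rfl, Ideal.sInf_minimalPrimes,
      Ideal.isRadical_bot.radical] at this
    exact this
  rw [← Ideal.Quotient.eq_zero_iff_mem]
  refine (Module.Flat.isSMulRegular_of_nonZeroDivisors (M := B ⧸ I) hnzd) ?_
  change a • Ideal.Quotient.mk I b = a • (0 : B ⧸ I)
  rw [smul_zero, Algebra.smul_def]
  change Ideal.Quotient.mk I (algebraMap A B a) * Ideal.Quotient.mk I b = 0
  rw [← map_mul, Ideal.Quotient.eq_zero_iff_mem]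
  exact (hJ _).1 haJ

/-- Over a reduced locally Noetherian base, flat subschemes are compared fibrewise. -/
theorem le_of_fibre_le [IsLocallyNoetherian T] [AlgebraicGeometry.IsReduced T] (π : X ⟶ T)
    (D D' : X.IdealSheafData) (hD' : Flat (D'.subschemeι ≫ π))
    (hfib : ∀ t : T, D.comap (π.fiberι t) ≤ D'.comap (π.fiberι t)) : D ≤ D' := by
  intro U₀ a ha
  refine Desc.mem_ideal_of_stI D' U₀ a fun x hxU₀ => ?_
  obtain ⟨W, hxW⟩ := FlatX.exists_chart π x
  obtain ⟨U, hU, hxU, hUle⟩ := exists_isAffineOpen_mem_and_subset (x := x) (U := U₀.1 ⊓ π ⁻¹ᵁ W.1) ⟨hxU₀, hxW⟩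
  have e : U ≤ π ⁻¹ᵁ W.1 := fun z hz => (hUle hz).2
  have hUU₀ : U ≤ U₀.1 := fun z hz => (hUle hz).1
  set b := X.presheaf.map (homOfLE hUU₀).op a
  have hgerm : ∀ (z : X) (hz : z ∈ U), X.presheaf.germ U z hz b = X.presheaf.germ U₀.1 z (hUU₀ hz) a :=
    fun z hz => TopCat.Presheaf.germ_res_apply _ _ z hz a
  have hbD : b ∈ D.ideal ⟨U, hU⟩ := D.ideal_le_comap_ideal (U := ⟨U, hU⟩) (V := U₀) hUU₀ ha
  suffices hb : b ∈ D'.ideal ⟨U, hU⟩ by
    rw [← hgerm x hxU, stI_eq D' ⟨U, hU⟩ hxU]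
    exact Ideal.mem_map_of_mem _ hb
  haveI : IsNoetherianRing Γ(T, W.1) := IsLocallyNoetherian.component_noetherian W
  haveI : IsReduced Γ(T, W.1) := AlgebraicGeometry.IsReduced.component_reduced W.1
  letI := (π.appLE W.1 U e).hom.toAlgebra
  haveI : Module.Flat Γ(T, W.1) (Γ(X, U) ⧸ D'.ideal ⟨U, hU⟩) :=
    RingHom.flat_algebraMap_iff.mp (FlatX.flat_quotApp π D' hD' W ⟨U, hU⟩ e)
  refine mem_of_minimalPrimes (A := Γ(T, W.1)) _ b fun p hp Q hQ hQp => ?_
  let z : X := hU.fromSpec ⟨Q, hQ⟩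
  have hzU : z ∈ U := by
    rw [← SetLike.mem_coe, ← hU.range_fromSpec]; exact ⟨⟨Q, hQ⟩, rfl⟩
  have hzQ : hU.primeIdealOf ⟨z, hzU⟩ = ⟨Q, hQ⟩ := hU.fromSpec.isOpenEmbedding.injective
    (hU.fromSpec_primeIdealOf ⟨z, hzU⟩)
  have hbot : maximalIdeal (T.presheaf.stalk (π z)) = ⊥ := by
    letI := T.presheaf.algebra_section_stalk ⟨π z, e hzU⟩
    haveI := W.2.isLocalization_stalk ⟨π z, e hzU⟩
    refine maximalIdeal_eq_bot (A := Γ(T, W.1)) (W.2.primeIdealOf ⟨π z, e hzU⟩).asIdeal ?_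
    have h1 := IsAffineOpen.comap_primeIdealOf_appLE W.1 W.2 U hU e hzU
    rw [← congrArg PrimeSpectrum.asIdeal h1, hzQ]
    change Q.comap (algebraMap Γ(T, W.1) Γ(X, U)) ∈ _
    rw [hQp]
    exact hp
  obtain ⟨w, hw⟩ : ∃ w : π.fiber (π z), π.fiberι (π z) w = z := ⟨_, π.fiberι_asFiber z⟩
  have key : ∀ (I : X.IdealSheafData) (y : X) (h : π.fiberι (π z) w = y),
      (stI I y).map (FibFlat.sm (π.fiberι (π z)) w y h) = stI (I.comap (π.fiberι (π z))) w := by
    rintro I y rfl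
    rw [FibFlat.sm_self, Desc.stI_comap]
  have hinj : Function.Injective (FibFlat.sm (π.fiberι (π z)) w z hw) := by
    rw [RingHom.injective_iff_ker_eq_bot, FibFlat.ker_sm_fiberι π (π z) w z hw, FibFlat.sm_self, hbot,
      Ideal.map_bot]
  have hle : stI (D.comap (π.fiberι (π z))) w ≤ stI (D'.comap (π.fiberι (π z))) w := by
    obtain ⟨O, hO, hwO⟩ := exists_aff w
    rw [stI_eq _ ⟨O, hO⟩ hwO, stI_eq _ ⟨O, hO⟩ hwO]
    exact Ideal.map_mono (hfib (π z) ⟨O, hO⟩)
  have hbz : X.presheaf.germ U z hzU b ∈ stI D' z := by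
    rw [← key D z hw, ← key D' z hw] at hle
    have h2 := hle (Ideal.mem_map_of_mem _ (by
      rw [stI_eq D ⟨U, hU⟩ hzU]; exact Ideal.mem_map_of_mem _ hbD : X.presheaf.germ U z hzU b ∈ stI D z))
    rw [Ideal.mem_map_iff_of_surjective _ (FibFlat.surjective_sm _ _ _)] at h2
    obtain ⟨y, hy, hyb⟩ := h2
    exact hinj hyb ▸ hy
  letI := X.presheaf.algebra_section_stalk ⟨z, hzU⟩
  haveI := hU.isLocalization_stalk ⟨z, hzU⟩
  rw [stI_eq D' ⟨U, hU⟩ hzU] at hbz
  obtain ⟨c, hc, hcb⟩ := (IsLocalization.algebraMap_mem_map_algebraMap_iff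
    (hU.primeIdealOf ⟨z, hzU⟩).asIdeal.primeCompl (X.presheaf.stalk z) (D'.ideal ⟨U, hU⟩) b).1 hbz
  exact ⟨c, fun h => hc (by rw [hzQ]; exact h), hcb⟩

end Groth.Agent.Div57.FibreLe
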