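import Groth.Agent.FittX.Sheaf
import Groth.Agent.GrpOmega.Shear
import Groth.Agent.OmegaUniv.Unram

/-!
# Fitting ideals of differentials and base change
-/

universe u

set_option autoImplicit false
set_option backward.isDefEq.respectTransparency false
set_option backward.isDefEq.respectTransparency.types false
set_option linter.style.haveILetI false

open CategoryTheory CategoryTheory.Limits AlgebraicGeometry TopologicalSpace Opposite

namespace Groth.Agent.Div57.FittOmega

theorem sheafIdeal_congr {X : Scheme.{u}} {M N : X.Modules} (e : M ≅ N) (hM : Coh.IsQCoh M) (hft : CohB1.IsFT M)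
    (r : ℕ) : Fitt.sheafIdeal M r = Fitt.sheafIdeal N r := by
  have h : ∀ U : X.affineOpens, Fitt.ideal Γ(X, U.1) Γ(M, U.1) r = Fitt.ideal Γ(X, U.1) Γ(N, U.1) r := fun U => by
    haveI := QCoh.finite_of_isFT hM hft U.2
    let l : Γ(M, U.1) →ₗ[Γ(X, U.1)] Γ(N, U.1) :=
      { toFun := e.hom.app U.1
        map_add' := map_add _
        map_smul' := fun a x => Scheme.Modules.Hom.app_smul e.hom a x }
    have hb : Function.Bijective l := ConcreteCategory.bijective_of_isIso (e.hom.app U.1)
    exact FittX.ideal_congr (LinearEquiv.ofBijective l hb) r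
  unfold Fitt.sheafIdeal
  rw [funext h]

theorem sheafIdeal_omega_baseChange {X S X' S' : Scheme.{u}} {f : X ⟶ S} {g : S' ⟶ S} {g' : X' ⟶ X}
    {f' : X' ⟶ S'} (sq : IsPullback g' f' f g) [LocallyOfFiniteType f] [QuasiSeparated f] (i : ℕ) :
    (Fitt.sheafIdeal (Omega.sheaf f) i).comap g' = Fitt.sheafIdeal (Omega.sheaf f') i := by
  obtain ⟨e⟩ := GrpOmega.nonempty_omega_baseChange sq
  rw [FittX.sheafIdeal_comap g' (OmegaUniv.isQCoh_omega f) (OmegaUniv.isFT_omega f)]
  exact sheafIdeal_congr e (QCoh.isQCoh_pullback g' (OmegaUniv.isQCoh_omega f))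
    (FittX.isFT_pullback g' (OmegaUniv.isQCoh_omega f) (OmegaUniv.isFT_omega f)) i

end Groth.Agent.Div57.FittOmega
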