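import Groth.Agent.AssLib.Basic
import Groth.Agent.Alg6.AssDepth
import Groth.Agent.KFlatLib.Scheme.Exact
import Groth.Agent.QCoh.Tilde
import Groth.Agent.QCoh.Stalk
import Groth.Prelude.Def_RefHull

/-!
# Isomorphisms detected by depth and associated points
-/

universe u

set_option autoImplicit false
set_option backward.isDefEq.respectTransparency false
set_option backward.isDefEq.respectTransparency.types false
set_option linter.style.haveILetI false

open CategoryTheory CategoryTheory.Limits AlgebraicGeometry IsLocalRing Groth.Agent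

namespace Groth.Agent.Div57

/-- Lifting through an inclusion into a module without associated maximal ideal, in depth two. -/
theorem mem_range_of_depth_two {R M N : Type u} [CommRing R] [IsLocalRing R] [IsNoetherianRing R]
    [AddCommGroup M] [Module R M] [Module.Finite R M] [AddCommGroup N] [Module R N]
    (f : M →ₗ[R] N) (hf : Function.Injective f) (hM : (2 : ℕ∞) ≤ LocCoh.depth R M)
    (hN : maximalIdeal R ∉ associatedPrimes R N) (g : N) (hg : ∀ a ∈ maximalIdeal R, a • g ∈ LinearMap.range f) :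
    g ∈ LinearMap.range f := by
  have h1 : maximalIdeal R ∉ associatedPrimes R M := Alg6.one_le_depth_iff.1 (le_trans (by decide) hM)
  obtain ⟨x, hx, hreg⟩ := (Alg6.exists_isSMulRegular_mem_iff (M := M) (maximalIdeal R)).2 fun P hP hle =>
    h1 ((maximalIdeal.isMaximal R).eq_of_le (IsAssociatedPrime.isPrime hP).ne_top hle ▸ hP)
  have h2 := (Alg6.two_le_depth_iff hx hreg).1 hM
  obtain ⟨m, hm⟩ := hg x hx
  have hkill : ∀ a ∈ maximalIdeal R, a • (Submodule.Quotient.mk m : QuotSMulTop x M) = 0 := fun a ha => by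
    obtain ⟨k, hk⟩ := hg a ha
    rw [← Submodule.Quotient.mk_smul]
    refine Alg6.mem_pointwise_smul_top_iff.2 ⟨k, hf ?_⟩
    rw [map_smul, hk, map_smul, hm, smul_comm]
  obtain ⟨m', hm'⟩ : ∃ m' : M, x • m' = m := by
    by_contra hne
    have hne' : (Submodule.Quotient.mk m : QuotSMulTop x M) ≠ 0 := fun h0 =>
      hne (Alg6.mem_pointwise_smul_top_iff.1 h0)
    obtain ⟨P, hP, hle⟩ := Alg6.exists_ass_ge (R := R) hne'
    exact h2 ((maximalIdeal.isMaximal R).eq_of_le (IsAssociatedPrime.isPrime hP).ne_top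
      (fun a ha => hle a (hkill a ha)) ▸ hP)
  refine ⟨m', ?_⟩
  by_contra hne
  have hne' : g - f m' ≠ 0 := fun h0 => hne (sub_eq_zero.1 h0).symm
  refine hN (Alg6.mem_ass_iff.2 ⟨(maximalIdeal.isMaximal R).isPrime, g - f m', fun a => ⟨fun ha => ?_, fun h0 => ?_⟩⟩)
  · obtain ⟨k, hk⟩ := hg a ha
    have hx0 : x • (k - a • m') = 0 := hf (by
      rw [map_zero, map_smul, map_sub, hk, map_smul, smul_sub, smul_comm x a g, ← hm, ← map_smul f a m,
        ← map_smul f a m', ← map_smul f x, smul_comm x a m', hm', sub_self])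
    have := (isSMulRegular_iff_right_eq_zero_of_smul.1 hreg) _ hx0
    rw [smul_sub, ← hk, ← map_smul, ← map_sub, this, map_zero]
  · by_contra ha
    exact hne' ((show IsUnit a from not_not.1 ha).smul_eq_zero.1 h0)

variable {X : Scheme.{u}} [IsLocallyNoetherian X]

/-- A map which is bijective on stalks except where the source has depth two and the target has no
associated point is an isomorphism. -/
theorem isIso_of_depth_two {F G : X.Modules} (φ : F ⟶ G) (hF : Coh.IsCoh F) (hG : Coh.IsQCoh G)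
    (h : ∀ x : X, Function.Bijective (RefHull.stalkMapₗ φ x) ∨
      ((2 : ℕ∞) ≤ LocCoh.depth (X.presheaf.stalk x) (F.presheaf.stalk x) ∧ ¬ Curv2.IsAssPoint G x)) :
    IsIso φ := by
  have hinj : ∀ x : X, Function.Injective (RefHull.stalkMapₗ φ x) := by
    by_contra hne
    push Not at hne
    obtain ⟨x₀, hx₀⟩ := hne
    let S := ShortComplex.mk (kernel.ι φ) φ (kernel.condition φ)
    have hex : ∀ x : X, Function.Exact (RefHull.stalkMapₗ (kernel.ι φ) x) (RefHull.stalkMapₗ φ x) := fun x =>
      LinearMap.exact_iff.2 (ShortComplex.Exact.moduleCat_range_eq_ker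
        ((S.exact_of_f_is_kernel (kernelIsKernel φ)).map (DerSch.stalkFunctor X x))).symm
    have hmono : ∀ x : X, Function.Injective (RefHull.stalkMapₗ (kernel.ι φ) x) := fun x =>
      (ModuleCat.mono_iff_injective ((DerSch.stalkFunctor X x).map (kernel.ι φ))).1 inferInstance
    have hx : x₀ ∈ CohB1.support (kernel φ) := fun hs => hx₀ ((injective_iff_map_eq_zero _).2 fun m hm => by
      haveI := hs
      obtain ⟨k, rfl⟩ := (hex x₀ m).1 hm
      rw [Subsingleton.elim k 0, map_zero])
    obtain ⟨y, hy, -⟩ := AssLib.exists_ass_specializes (QCoh.isQCoh_kernel hF.1 hG φ) hx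
    obtain ⟨hP, z, hz⟩ := Alg6.mem_ass_iff.1 hy
    have hz0 : z ≠ 0 := fun h0 => hP.ne_top ((Ideal.eq_top_iff_one _).2 ((hz 1).2 (by rw [h0, smul_zero])))
    rcases h y with hb | ⟨hd, -⟩
    · exact hz0 (hmono y (hb.1 ((hex y _).2 ⟨z, rfl⟩ |>.trans (map_zero _).symm) |>.trans (map_zero _).symm))
    · haveI := QCoh.finite_stalk_of_isFT hF.1 hF.2 y
      refine Alg6.one_le_depth_iff.1 (le_trans (by decide) hd)
        (Alg6.mem_ass_iff.2 ⟨hP, RefHull.stalkMapₗ (kernel.ι φ) y z, fun a => ?_⟩)
      rw [hz a, ← map_smul, map_eq_zero_iff _ (hmono y)]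
  have hsurj : ∀ x : X, Function.Surjective (RefHull.stalkMapₗ φ x) := by
    by_contra hne
    push Not at hne
    obtain ⟨x₀, hx₀⟩ := hne
    let S := ShortComplex.mk φ (cokernel.π φ) (cokernel.condition φ)
    have hex : ∀ x : X, Function.Exact (RefHull.stalkMapₗ φ x) (RefHull.stalkMapₗ (cokernel.π φ) x) := fun x =>
      LinearMap.exact_iff.2 (ShortComplex.Exact.moduleCat_range_eq_ker
        ((S.exact_of_g_is_cokernel (cokernelIsCokernel φ)).map (DerSch.stalkFunctor X x))).symm
    have hepi : ∀ x : X, Function.Surjective (RefHull.stalkMapₗ (cokernel.π φ) x) := fun x =>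
      (ModuleCat.epi_iff_surjective ((DerSch.stalkFunctor X x).map (cokernel.π φ))).1 inferInstance
    have hx : x₀ ∈ CohB1.support (cokernel φ) := fun hs => hx₀ fun m => by
      haveI := hs
      exact (hex x₀ m).1 (Subsingleton.elim _ _)
    obtain ⟨y, hy, -⟩ := AssLib.exists_ass_specializes (QCoh.isQCoh_cokernel hF.1 hG φ) hx
    obtain ⟨hP, q, hq⟩ := Alg6.mem_ass_iff.1 hy
    obtain ⟨g, rfl⟩ := hepi y q
    have hg0 : ¬ g ∈ LinearMap.range (RefHull.stalkMapₗ φ y) := fun hg => hP.ne_top
      ((Ideal.eq_top_iff_one _).2 ((hq 1).2 (by rw [one_smul]; exact (hex y g).2 hg)))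
    rcases h y with hb | ⟨hd, hna⟩
    · exact hg0 (hb.2 g)
    · haveI := QCoh.finite_stalk_of_isFT hF.1 hF.2 y
      exact hg0 (mem_range_of_depth_two _ (hinj y) hd hna g fun a ha =>
        (hex y _).1 (by rw [map_smul]; exact (hq a).1 ha))
  exact KFlatLib.isIso_of_stalk φ fun x => (ConcreteCategory.isIso_iff_bijective _).2 ⟨hinj x, hsurj x⟩

end Groth.Agent.Div57
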