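import Groth.Agent.DivX.MeroMod
import Groth.Agent.MeroX.Basic
import Groth.Agent.AssPtX.Basic
import Groth.Agent.AssPtX.Noeth
import Groth.Agent.QCoh.VanIdeal
import Groth.Agent.RefX.Reflexive
import Groth.Agent.AssLib.Apply

/-!
# Meromorphic functions when the weakly associated points are locally finite

Regular germs are the non zero divisors, `K(U)` is the total quotient ring on affine opens, and
functions on opens containing all weakly associated points extend to meromorphic functions.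
-/

universe u

set_option autoImplicit false
set_option backward.isDefEq.respectTransparency false
set_option backward.isDefEq.respectTransparency.types false
set_option linter.style.haveILetI false
set_option linter.unusedSectionVars false

open CategoryTheory AlgebraicGeometry TopologicalSpace Opposite

namespace Groth.Agent.Div57.KQuot

variable {X : Scheme.{u}}

/-- A weakly associated point of the structure sheaf. -/
abbrev WA (y : X) : Prop := Curv2.IsWeakAssPoint (Coh.structureModule X) y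

/-- Weakly associated points are finite on each affine open. -/
def WFin (X : Scheme.{u}) : Prop := ∀ U : X.affineOpens, {y : X | y ∈ U.1 ∧ WA y}.Finite

theorem wfin_of_isLocallyNoetherian [IsLocallyNoetherian X] : WFin X := fun U =>
  (AssPtX.finite_assPoints (RefX.isCoh_unit (X := X)) U.2.isCompact).subset fun _ hy =>
    ⟨hy.1, AssPtX.isAssPoint_iff.2 hy.2⟩

/-- A function is zero if its germs at weakly associated points are. -/
theorem eq_zero_of_WA {U : X.Opens} (s : Γ(X, U))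
    (h : ∀ (y : X) (hy : y ∈ U), WA y → X.presheaf.germ U y hy s = 0) : s = 0 := by
  refine (AssPtX.eq_zero_of_germ (QCoh.isQCoh_structureModule (X := X)) (show Γ(Coh.structureModule X, U) from s)
    fun y hy hya => ?_ : _)
  obtain ⟨W, hW, i, _j, e⟩ := TopCat.Presheaf.germ_eq (V := U) X.presheaf y hy hy s 0
    ((h y hy hya).trans (map_zero _).symm)
  rw [map_zero] at e
  refine ((Coh.structureModule X).presheaf.germ_res_apply i y hW s).symm.trans ?_
  exact (congrArg ((Coh.structureModule X).presheaf.germ W y hW) (show _ = 0 from e)).trans (map_zero _)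

theorem exists_WA_mem {U : X.Opens} {x : X} (hx : x ∈ U) : ∃ y ∈ U, WA y := by
  by_contra hne
  push Not at hne
  have h := eq_zero_of_WA (U := U) 1 fun y hy hya => absurd hya (hne y hy)
  have h1 := congrArg (X.presheaf.germ U x hx) h
  rw [map_one, map_zero] at h1
  exact one_ne_zero h1

/-- Non zero divisors of the local ring at a weakly associated point are units. -/
theorem isUnit_of_mem_nonZeroDivisors {y : X} (hy : WA y) {g : X.presheaf.stalk y}
    (hg : g ∈ nonZeroDivisors (X.presheaf.stalk y)) : IsUnit g := by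
  obtain ⟨m, hm⟩ := hy
  by_contra hu
  have h1 : g ∈ Ideal.radical (LinearMap.ker (LinearMap.toSpanSingleton (X.presheaf.stalk y)
      ((Coh.structureModule X).presheaf.stalk y) m)) := hm ▸ (IsLocalRing.mem_maximalIdeal _).2 hu
  obtain ⟨n, hn⟩ := h1
  rw [LinearMap.mem_ker, LinearMap.toSpanSingleton_apply] at hn
  let e := RefX.unitStalk (X := X) y
  have h0 : e.symm m = 0 := by
    have := congrArg e.symm hn
    rw [map_smul, map_zero, smul_eq_mul, mul_comm] at this
    exact mem_nonZeroDivisors_iff_right.1 (pow_mem hg n) _ this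
  have hm0 : m = 0 := e.symm.map_eq_zero_iff.1 h0
  refine (IsLocalRing.maximalIdeal.isMaximal (X.presheaf.stalk y)).ne_top ?_
  rw [← hm, hm0, Ideal.radical_eq_top, Ideal.eq_top_iff_one]
  simp

theorem isUnit_germ_of_regSub {U : X.Opens} {b : Γ(X, U)} (hb : b ∈ Mero.regSub X U) {y : X} (hy : y ∈ U)
    (hya : WA y) : IsUnit (X.presheaf.germ U y hy b) :=
  isUnit_of_mem_nonZeroDivisors hya (hb ⟨y, hy⟩)

/-- A function invertible at the weakly associated points is regular. -/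
theorem mem_regSub {U : X.Opens} {a : Γ(X, U)}
    (ha : ∀ (y : X) (hy : y ∈ U), WA y → IsUnit (X.presheaf.germ U y hy a)) : a ∈ Mero.regSub X U := fun x => by
  rw [mem_nonZeroDivisors_iff_right]
  intro c hc
  obtain ⟨W, hxW, c', rfl⟩ := TopCat.Presheaf.exists_germ_eq X.presheaf c
  obtain ⟨W', hxW', i, j, hW'⟩ := TopCat.Presheaf.germ_eq (U := W ⊓ U) (V := W ⊓ U) X.presheaf x.1 ⟨hxW, x.2⟩ ⟨hxW, x.2⟩
    (X.presheaf.map (homOfLE (inf_le_left : W ⊓ U ≤ W)).op c' * X.presheaf.map (homOfLE (inf_le_right : W ⊓ U ≤ U)).op a) 0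
    (by rw [map_mul, TopCat.Presheaf.germ_res_apply, TopCat.Presheaf.germ_res_apply, map_zero]; exact hc)
  have h0 : X.presheaf.map (i ≫ homOfLE (inf_le_left : W ⊓ U ≤ W)).op c' = 0 := by
    refine eq_zero_of_WA _ fun y hy hya => ?_
    rw [TopCat.Presheaf.germ_res_apply]
    have h1 := congrArg (X.presheaf.germ W' y hy) hW'
    simp only [TopCat.Presheaf.germ_res_apply, map_mul, map_zero] at h1
    exact (ha y (i.le hy).2 hya).mul_left_eq_zero.1 h1
  have h2 := congrArg (X.presheaf.germ W' x.1 hxW') h0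
  rwa [TopCat.Presheaf.germ_res_apply, map_zero] at h2

/-- The germs of regular sections are the non zero divisors. -/
theorem regStalk_eq (hfin : WFin X) (x : X) : Mero.regStalk X x = nonZeroDivisors (X.presheaf.stalk x) := by
  refine le_antisymm (Mero.regStalk_le_nonZeroDivisors x) fun g hg => ?_
  obtain ⟨V, hV, hxV, -⟩ := exists_isAffineOpen_mem_and_subset (x := x) (U := ⊤) trivial
  letI := QCoh.stalkAlg (X := X) hxV
  haveI := QCoh.isLocalization_stalk' hV hxV
  obtain ⟨⟨f, ⟨s, hs⟩⟩, hfs⟩ := IsLocalization.surj (hV.primeIdealOf ⟨x, hxV⟩).asIdeal.primeCompl g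
  have hfs' : g * X.presheaf.germ V x hxV s = X.presheaf.germ V x hxV f := hfs
  have hsu : IsUnit (X.presheaf.germ V x hxV s) :=
    (X.mem_basicOpen s x hxV).1 ((QCoh.mem_basicOpen_iff_notMem hV hxV s).2 hs)
  -- generizations
  have hgen : ∀ (y : X) (hyV : y ∈ V), WA y → y ⤳ x → IsUnit (X.presheaf.germ V y hyV f) := by
    intro y hyV hya hyx
    refine isUnit_of_mem_nonZeroDivisors hya ?_
    rw [mem_nonZeroDivisors_iff_right]
    intro m hm
    letI := QCoh.stalkAlg (X := X) hyV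
    haveI := QCoh.isLocalization_stalk' hV hyV
    obtain ⟨⟨c, t⟩, hct⟩ := IsLocalization.surj (hV.primeIdealOf ⟨y, hyV⟩).asIdeal.primeCompl m
    have h1 : algebraMap Γ(X, V) (X.presheaf.stalk y) (c * f) = 0 := by
      rw [map_mul, ← hct, mul_right_comm]
      exact mul_eq_zero_of_left hm _
    obtain ⟨u, hu⟩ := (IsLocalization.map_eq_zero_iff (hV.primeIdealOf ⟨y, hyV⟩).asIdeal.primeCompl _ _).1 h1
    have h2 : X.presheaf.germ V x hxV (u.1 * c) = 0 := by
      refine mem_nonZeroDivisors_iff_right.1 hg _ (hsu.mul_left_eq_zero.1 ?_)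
      rw [mul_assoc, hfs', ← map_mul, mul_assoc, hu, map_zero]
    have h3 := congrArg (X.presheaf.stalkSpecializes hyx) h2
    rw [TopCat.Presheaf.germ_stalkSpecializes_apply, map_zero, map_mul] at h3
    have huu := IsLocalization.map_units (X.presheaf.stalk y) u
    have h4 : algebraMap Γ(X, V) (X.presheaf.stalk y) c = 0 := huu.mul_right_eq_zero.1 h3
    rw [← hct] at h4
    exact (IsLocalization.map_units (X.presheaf.stalk y) t).mul_left_eq_zero.1 h4
  let bad : Set X := {y | y ∈ V ∧ WA y ∧ ¬ y ⤳ x}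
  have hbad : bad.Finite := (hfin ⟨V, hV⟩).subset fun y hy => ⟨hy.1, hy.2.1⟩
  let W : X.Opens := X.basicOpen s ⊓
    ⟨(⋃ y ∈ bad, closure ({y} : Set X))ᶜ, (hbad.isClosed_biUnion fun y _ => isClosed_closure).isOpen_compl⟩
  have hxW : x ∈ W := by
    refine ⟨(X.mem_basicOpen s x hxV).2 hsu, fun hx => ?_⟩
    obtain ⟨y, hy, hyx⟩ := Set.mem_iUnion₂.1 hx
    exact hy.2.2 (specializes_iff_mem_closure.2 hyx)
  have hWV : W ≤ V := inf_le_left.trans (X.basicOpen_le s)
  have hu : IsUnit (X.presheaf.map (homOfLE hWV).op s) := by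
    have h1 : IsUnit (X.presheaf.map (homOfLE (X.basicOpen_le s)).op s) := X.toRingedSpace.isUnit_res_basicOpen s
    have h2 := h1.map (X.presheaf.map (homOfLE (inf_le_left : W ≤ X.basicOpen s)).op).hom
    rwa [← CommRingCat.comp_apply, ← Functor.map_comp] at h2
  refine ⟨W, hxW, X.presheaf.map (homOfLE hWV).op f * hu.unit⁻¹.val, mem_regSub fun y hy hya => ?_, ?_⟩
  · rw [map_mul]
    refine IsUnit.mul ?_ ((hu.unit⁻¹).isUnit.map _)
    rw [TopCat.Presheaf.germ_res_apply]
    refine hgen y (hWV hy) hya (by_contra fun hne => ?_)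
    exact hy.2 (Set.mem_iUnion₂.2 ⟨y, ⟨hWV hy, hya, hne⟩, subset_closure rfl⟩)
  · have h1 := congrArg (X.presheaf.germ W x hxW) (IsUnit.mul_val_inv hu)
    rw [map_mul, map_one, TopCat.Presheaf.germ_res_apply] at h1
    rw [map_mul, TopCat.Presheaf.germ_res_apply, ← hfs', mul_assoc, h1, mul_one]

/-- An ideal avoiding each weakly associated point contains a regular element. -/
theorem exists_regSub_mem (hfin : WFin X) {V : X.Opens} (hV : IsAffineOpen V) (I : Ideal Γ(X, V))
    (h : ∀ (y : X) (hy : y ∈ V), WA y → ∃ c ∈ I, IsUnit (X.presheaf.germ V y hy c)) :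
    ∃ c ∈ I, c ∈ Mero.regSub X V := by
  classical
  let T := (hfin ⟨V, hV⟩).toFinset.attach
  let p : {y // y ∈ (hfin ⟨V, hV⟩).toFinset} → Ideal Γ(X, V) :=
    fun y => (hV.primeIdealOf ⟨y.1, ((hfin ⟨V, hV⟩).mem_toFinset.1 y.2).1⟩).asIdeal
  obtain ⟨c, hc, hcp⟩ : ∃ c ∈ I, ∀ y, c ∉ p y := by
    by_contra hne
    push Not at hne
    rcases isEmpty_or_nonempty {y // y ∈ (hfin ⟨V, hV⟩).toFinset} with he | ⟨⟨y₀⟩⟩
    · obtain ⟨y, -⟩ := hne 0 (zero_mem _)
      exact he.false y
    have hsub : (I : Set Γ(X, V)) ⊆ ⋃ y ∈ (↑T : Set {y // y ∈ (hfin ⟨V, hV⟩).toFinset}), (p y : Set Γ(X, V)) :=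
      fun c hc => let ⟨y, hy⟩ := hne c hc; Set.mem_iUnion₂.2 ⟨y, Finset.mem_attach _ y, hy⟩
    obtain ⟨y, -, hy⟩ := (Ideal.subset_union_prime y₀ y₀ fun i _ _ _ => (hV.primeIdealOf _).2).1 hsub
    obtain ⟨c, hc, hcu⟩ := h y.1 ((hfin ⟨V, hV⟩).mem_toFinset.1 y.2).1 ((hfin ⟨V, hV⟩).mem_toFinset.1 y.2).2
    exact (QCoh.mem_basicOpen_iff_notMem hV _ c).1 ((X.mem_basicOpen c _ _).2 hcu) (hy hc)
  refine ⟨c, hc, mem_regSub fun y hy hya => (X.mem_basicOpen c y hy).1
    ((QCoh.mem_basicOpen_iff_notMem hV hy c).2 (hcp ⟨y, (hfin ⟨V, hV⟩).mem_toFinset.2 ⟨hy, hya⟩⟩))⟩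

/-- A fraction. -/
noncomputable def frac {U : X.Opens} (a : Γ(X, U)) (b : Mero.regSub X U) : Γ(Mero.kmod X, U) :=
  ⟨fun x => LocalizedModule.mk (X.presheaf.germ U x.1 x.2 a) (Mero.regGerm x b),
    fun x => ⟨U, x.2, 𝟙 _, a, b, fun _ => rfl⟩⟩

theorem frac_val {U : X.Opens} (a : Γ(X, U)) (b : Mero.regSub X U) (x : U) :
    (frac a b).1 x = LocalizedModule.mk (X.presheaf.germ U x.1 x.2 a) (Mero.regGerm x b) := rfl

theorem toK_mul_frac {U : X.Opens} (a : Γ(X, U)) (b : Mero.regSub X U) :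
    Mero.toK X U b.1 * frac a b = Mero.toK X U a := Subtype.ext <| funext fun x => by
  show (LocalizedModule.mk _ 1 : Mero.KStalk X x.1) * LocalizedModule.mk _ _ = LocalizedModule.mk _ 1
  refine LocalizedModule.mk_mul_mk.trans (LocalizedModule.mk_eq.2 ⟨1, ?_⟩)
  simp [Submonoid.smul_def]

theorem isUnit_toK {U : X.Opens} (b : Mero.regSub X U) : IsUnit (Mero.toK X U b.1) :=
  IsUnit.of_mul_eq_one (frac 1 b) (by rw [toK_mul_frac, map_one])

/-- A meromorphic function vanishing at the weakly associated points is zero. -/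
theorem kmod_eq_zero {U : X.Opens} (f : Γ(Mero.kmod X, U)) (h : ∀ y : U, WA y.1 → f.1 y = 0) : f = 0 := by
  refine Subtype.ext (funext fun x => ?_)
  obtain ⟨W, hxW, i, a, b, hab⟩ := f.2 x
  have ha : a = 0 := eq_zero_of_WA _ fun y hy hya => by
    obtain ⟨⟨t, ht⟩, hta⟩ := LocalizedModule.mk_eq.1
      (((hab ⟨y, hy⟩).symm.trans (h ⟨y, i.le hy⟩ hya)).trans (LocalizedModule.zero_mk (1 : Mero.regStalk X y)).symm)
    simp only [one_smul, smul_zero, Submonoid.smul_def, smul_eq_mul] at hta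
    exact mem_nonZeroDivisors_iff_right.1 (Mero.regStalk_le_nonZeroDivisors y ht) _ (by rw [mul_comm]; exact hta)
  refine (hab ⟨x.1, hxW⟩).trans ?_
  rw [ha, map_zero, LocalizedModule.zero_mk]
  rfl

theorem kmod_ext {U : X.Opens} {f g : Γ(Mero.kmod X, U)} (h : ∀ y : U, WA y.1 → f.1 y = g.1 y) : f = g :=
  sub_eq_zero.1 (kmod_eq_zero _ fun y hy => (map_sub (Mero.evalK X U y) f g).trans (sub_eq_zero.2 (h y hy)))

/-- A meromorphic function vanishing on a basic open is killed by a power. -/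
theorem exists_pow_smul_eq_zero {U : X.Opens} (hU : IsCompact (U : Set X)) (h : Γ(X, U))
    (f : Γ(Mero.kmod X, U)) (hf : ∀ y : U, y.1 ∈ X.basicOpen h → f.1 y = 0) :
    ∃ n : ℕ, h ^ n • f = 0 := by
  classical
  have hloc : ∀ x : U, ∃ (V : X.Opens) (n : ℕ), x.1 ∈ V ∧ ∀ (y : U), y.1 ∈ V →
      algebraMap (X.presheaf.stalk y.1) (Mero.KStalk X y.1) (X.presheaf.germ U y.1 y.2 h ^ n) * f.1 y = 0 := by
    intro x
    obtain ⟨W, hxW, i, a₀, b₀, hab⟩ := f.2 x
    obtain ⟨V, hV, hxV, hVW⟩ := exists_isAffineOpen_mem_and_subset (X := X) (x := x.1) (U := W) hxW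
    replace hVW : V ≤ W := hVW
    have hVU : V ≤ U := hVW.trans i.le
    let a := X.presheaf.map (homOfLE hVW).op a₀
    let h' := X.presheaf.map (homOfLE hVU).op h
    obtain ⟨n, hn⟩ := exists_pow_mul_eq_zero_of_res_basicOpen_eq_zero_of_isAffineOpen X hV a h' (by
      refine TopCat.Presheaf.section_ext X.sheaf _ _ _ fun y hy => ?_
      show X.presheaf.germ _ y hy (X.presheaf.map (homOfLE (X.basicOpen_le h')).op a) = X.presheaf.germ _ y hy 0
      have hyV : y ∈ V := X.basicOpen_le h' hy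
      have hyh : y ∈ X.basicOpen h := by
        rw [X.mem_basicOpen h y (hVU hyV)]
        have := (X.mem_basicOpen h' y hyV).1 hy
        rwa [TopCat.Presheaf.germ_res_apply] at this
      obtain ⟨⟨t, ht⟩, hta⟩ := LocalizedModule.mk_eq.1
        (((hab ⟨y, hVW hyV⟩).symm.trans (hf ⟨y, hVU hyV⟩ hyh)).trans (LocalizedModule.zero_mk (1 : Mero.regStalk X y)).symm)
      simp only [one_smul, smul_zero, Submonoid.smul_def, smul_eq_mul] at hta
      rw [map_zero, TopCat.Presheaf.germ_res_apply, TopCat.Presheaf.germ_res_apply]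
      exact mem_nonZeroDivisors_iff_right.1 (Mero.regStalk_le_nonZeroDivisors y ht) _ (by rw [mul_comm]; exact hta))
    refine ⟨V, n, hxV, fun y hy => ?_⟩
    have h1 := congrArg (X.presheaf.germ V y.1 hy) hn
    rw [map_mul, map_pow, TopCat.Presheaf.germ_res_apply, TopCat.Presheaf.germ_res_apply, map_zero] at h1
    rw [show f.1 y = _ from hab ⟨y.1, hVW hy⟩, ← Algebra.smul_def, LocalizedModule.smul'_mk, smul_eq_mul, h1,
      LocalizedModule.zero_mk]
  choose V n hxV hn using hloc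
  obtain ⟨T, hT⟩ := hU.elim_finite_subcover (fun x : U => (V x : Set X)) (fun x => (V x).2)
    (fun z hz => Set.mem_iUnion.2 ⟨⟨z, hz⟩, hxV _⟩)
  refine ⟨T.sup n, Subtype.ext (funext fun y => ?_)⟩
  obtain ⟨x, hx, hyV⟩ := Set.mem_iUnion₂.1 (hT y.2)
  rw [DivX.smul_val, map_pow, ← Nat.sub_add_cancel (Finset.le_sup (f := n) hx), pow_add, map_mul, mul_assoc,
    hn x y hyV, mul_zero]
  rfl

/-- On an affine open the meromorphic functions are the total ring of fractions. -/
theorem isLocalization_affine (hfin : WFin X) (U : X.affineOpens) :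
    @IsLocalization Γ(X, U.1) _ (nonZeroDivisors Γ(X, U.1)) Γ(Mero.kmod X, U.1) _ (Mero.toK X U.1).toAlgebra := by
  letI := (Mero.toK X U.1).toAlgebra
  obtain ⟨U, hU⟩ := U
  have hnzd : ∀ a : Γ(X, U), a ∈ nonZeroDivisors Γ(X, U) → a ∈ Mero.regSub X U := fun a ha => by
    rw [MeroX.regSub_eq_nonZeroDivisors hU]; exact ha
  refine (isLocalization_iff _ _).2 ⟨fun b => isUnit_toK ⟨b.1, hnzd _ b.2⟩, fun f => ?_, fun {a a'} h =>
    ⟨1, by rw [DivX.toK_injective U h]⟩⟩
  let I : Ideal Γ(X, U) :=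
    { carrier := {c | ∃ a, Mero.toK X U c * f = Mero.toK X U a}
      zero_mem' := ⟨0, by rw [map_zero, zero_mul]⟩
      add_mem' := by
        rintro c d ⟨a, ha⟩ ⟨b, hb⟩
        exact ⟨a + b, by rw [map_add, map_add, add_mul, ha, hb]⟩
      smul_mem' := by
        rintro r c ⟨a, ha⟩
        exact ⟨r * a, by rw [smul_eq_mul, map_mul, map_mul, mul_assoc, ha]⟩ }
  obtain ⟨c, ⟨a, ha⟩, hc⟩ := exists_regSub_mem hfin hU I fun y hy hya => by
    obtain ⟨W, hyW, i, a₁, b₁, hab⟩ := f.2 ⟨y, hy⟩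
    obtain ⟨g, hgW, hyg⟩ := hU.exists_basicOpen_le ⟨y, hyW⟩ hy
    let D := X.basicOpen g
    letI : Algebra Γ(X, U) Γ(X, D) := (X.presheaf.map (homOfLE (X.basicOpen_le g)).op).hom.toAlgebra
    haveI := hU.isLocalization_basicOpen g
    obtain ⟨⟨b₀, ⟨_, n, rfl⟩⟩, hb₀⟩ := IsLocalization.surj (Submonoid.powers g)
      (X.presheaf.map (homOfLE hgW).op b₁.1)
    obtain ⟨⟨a₀, ⟨_, k, rfl⟩⟩, ha₀⟩ := IsLocalization.surj (Submonoid.powers g)
      (X.presheaf.map (homOfLE hgW).op a₁)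
    have key : ∀ (z : X) (hz : z ∈ D) (r : Γ(X, W)) (r₀ : Γ(X, U)) (m : ℕ),
        X.presheaf.map (homOfLE hgW).op r * algebraMap Γ(X, U) Γ(X, D) (g ^ m) = algebraMap Γ(X, U) Γ(X, D) r₀ →
        X.presheaf.germ W z (hgW hz) r * X.presheaf.germ U z (X.basicOpen_le g hz) g ^ m =
          X.presheaf.germ U z (X.basicOpen_le g hz) r₀ := fun z hz r r₀ m e => by
      have h1 := congrArg (X.presheaf.germ D z hz) e
      rw [map_mul] at h1
      rw [← map_pow, ← X.presheaf.germ_res_apply (homOfLE (X.basicOpen_le g)) z hz,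
        ← X.presheaf.germ_res_apply (homOfLE (X.basicOpen_le g)) z hz r₀, ← X.presheaf.germ_res_apply (homOfLE hgW) z hz r]
      exact h1
    obtain ⟨N, hN⟩ := exists_pow_smul_eq_zero hU.isCompact g
      (Mero.toK X U (g ^ k * b₀) * f - Mero.toK X U (g ^ n * a₀)) fun z hz => by
        refine (map_sub (Mero.evalK X U z) _ _).trans (sub_eq_zero.2 ?_)
        show (Mero.toK X U (g ^ k * b₀) * f).1 z = (Mero.toK X U (g ^ n * a₀)).1 z
        rw [Mero.kmod_mul_apply, DivX.toK_val, DivX.toK_val, show f.1 z = _ from hab ⟨z.1, hgW hz⟩,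
          ← Algebra.smul_def, LocalizedModule.smul'_mk]
        show LocalizedModule.mk _ _ = LocalizedModule.mk _ 1
        refine LocalizedModule.mk_eq.2 ⟨1, ?_⟩
        simp only [one_smul, map_mul, map_pow, Submonoid.smul_def, smul_eq_mul, Submonoid.coe_one]
        rw [← key z.1 hz b₁.1 b₀ n hb₀, ← key z.1 hz a₁ a₀ k ha₀]
        simp only [Algebra.algebraMap_self, RingHom.id_apply, map_mul, map_pow]
        ring
    refine ⟨g ^ N * (g ^ k * b₀), ⟨g ^ N * (g ^ n * a₀), ?_⟩, ?_⟩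
    · rw [← sub_eq_zero, map_mul (Mero.toK X U) (g ^ N), map_mul (Mero.toK X U) (g ^ N), mul_assoc, ← mul_sub,
        DivX.toK_mul_eq_smul]
      exact hN
    · have hgu : IsUnit (X.presheaf.germ U y hy g) := (X.mem_basicOpen g y hy).1 hyg
      rw [map_mul, map_mul, map_pow, map_pow, ← key y hyg b₁.1 b₀ n hb₀]
      exact (hgu.pow N).mul ((hgu.pow k).mul ((isUnit_germ_of_regSub b₁.2 (hgW hyg) hya).mul (hgu.pow n)))
  rw [MeroX.regSub_eq_nonZeroDivisors hU] at hc
  refine ⟨(a, ⟨c, hc⟩), ?_⟩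
  show f * Mero.toK X U c = Mero.toK X U a
  rw [mul_comm, ha]

/-- Functions on an open containing the weakly associated points extend as meromorphic functions. -/
theorem exists_extend (hfin : WFin X) {U V : X.Opens} (hVU : V ≤ U) (hV : ∀ y ∈ U, WA y → y ∈ V)
    (g : Γ(X, V)) : ∃ s : Γ(Mero.kmod X, U), DivX.kRes hVU s = Mero.toK X V g := by
  have hloc : ∀ x : U, ∃ (W : X.Opens) (_ : W ≤ U) (a : Γ(X, W)) (b : Mero.regSub X W), x.1 ∈ W ∧
      ∀ (y : X) (hy : y ∈ W) (hy' : y ∈ V),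
        X.presheaf.germ W y hy a = X.presheaf.germ V y hy' g * X.presheaf.germ W y hy b.1 := by
    intro x
    obtain ⟨W, hW, hxW, hWU⟩ := exists_isAffineOpen_mem_and_subset (X := X) (x := x.1) (U := U) x.2
    replace hWU : W ≤ U := hWU
    let J : Ideal Γ(X, W) := ⨅ z : {z : X // z ∈ W ∧ z ∉ V}, (hW.primeIdealOf ⟨z.1, z.2.1⟩).asIdeal
    obtain ⟨b, hbJ, hb⟩ := exists_regSub_mem hfin hW J fun y hy hya => by
      obtain ⟨c, hcV, hyc⟩ := hW.exists_basicOpen_le ⟨y, hV y (hWU hy) hya⟩ hy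
      refine ⟨c, Ideal.mem_iInf.2 fun z => ?_, (X.mem_basicOpen c y hy).1 hyc⟩
      by_contra hc
      exact z.2.2 (hcV ((QCoh.mem_basicOpen_iff_notMem hW z.2.1 c).2 hc))
    have hbV : X.basicOpen b ≤ V := fun z hz => by
      by_contra hzV
      exact (QCoh.mem_basicOpen_iff_notMem hW (X.basicOpen_le b hz) b).1 hz
        (Ideal.mem_iInf.1 hbJ ⟨z, X.basicOpen_le b hz, hzV⟩)
    letI : Algebra Γ(X, W) Γ(X, X.basicOpen b) := (X.presheaf.map (homOfLE (X.basicOpen_le b)).op).hom.toAlgebra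
    haveI := hW.isLocalization_basicOpen b
    obtain ⟨⟨a, ⟨_, n, rfl⟩⟩, ha⟩ := IsLocalization.surj (Submonoid.powers b)
      (X.presheaf.map (homOfLE hbV).op g)
    refine ⟨W, hWU, a, ⟨b ^ n, pow_mem hb n⟩, hxW, fun y hy hy' => ?_⟩
    have h0 : X.presheaf.map (homOfLE (inf_le_left : W ⊓ V ≤ W)).op a -
        X.presheaf.map (homOfLE (inf_le_right : W ⊓ V ≤ V)).op g *
          X.presheaf.map (homOfLE (inf_le_left : W ⊓ V ≤ W)).op (b ^ n) = 0 := by
      refine eq_zero_of_WA _ fun z hz hza => ?_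
      have hzb : z ∈ X.basicOpen b := (X.mem_basicOpen b z hz.1).2 (isUnit_germ_of_regSub hb hz.1 hza)
      have h1 := congrArg (X.presheaf.germ _ z hzb) ha
      rw [map_mul] at h1
      change X.presheaf.germ _ z hzb (X.presheaf.map (homOfLE hbV).op g) *
        X.presheaf.germ _ z hzb (X.presheaf.map (homOfLE (X.basicOpen_le b)).op (b ^ n)) =
          X.presheaf.germ _ z hzb (X.presheaf.map (homOfLE (X.basicOpen_le b)).op a) at h1
      simp only [TopCat.Presheaf.germ_res_apply] at h1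
      rw [map_sub, map_mul]
      simp only [TopCat.Presheaf.germ_res_apply]
      rw [← h1, sub_self]
    have h1 := congrArg (X.presheaf.germ (W ⊓ V) y ⟨hy, hy'⟩) h0
    rw [map_sub, map_mul, map_zero, sub_eq_zero] at h1
    simpa only [TopCat.Presheaf.germ_res_apply] using h1
  choose W hWU a b hxW hab using hloc
  have hagree : ∀ (x x' : U) (y : X) (hy : y ∈ W x) (hy' : y ∈ W x'),
      (frac (a x) (b x)).1 ⟨y, hy⟩ = (frac (a x') (b x')).1 ⟨y, hy'⟩ := by
    intro x x' y hy hy'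
    have heq : DivX.kRes (inf_le_left : W x ⊓ W x' ≤ W x) (frac (a x) (b x)) =
        DivX.kRes (inf_le_right : W x ⊓ W x' ≤ W x') (frac (a x') (b x')) := kmod_ext fun z hza => by
      have hzV : z.1 ∈ V := hV z.1 (hWU x z.2.1) hza
      rw [DivX.kRes_apply, DivX.kRes_apply, frac_val, frac_val, hab x z.1 z.2.1 hzV, hab x' z.1 z.2.2 hzV]
      refine LocalizedModule.mk_eq.2 ⟨1, ?_⟩
      simp only [one_smul, Submonoid.smul_def, smul_eq_mul]
      ring
    exact congrArg (fun f : Γ(Mero.kmod X, W x ⊓ W x') => f.1 ⟨y, hy, hy'⟩) heq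
  refine ⟨⟨fun x => (frac (a x) (b x)).1 ⟨x.1, hxW x⟩, fun x => ⟨W x, hxW x, homOfLE (hWU x), a x, b x,
    fun y => ?_⟩⟩, Subtype.ext (funext fun y => ?_)⟩
  · exact hagree ⟨y.1, hWU x y.2⟩ x y.1 (hxW _) y.2
  · rw [DivX.toK_val]
    show (frac (a ⟨y.1, hVU y.2⟩) (b ⟨y.1, hVU y.2⟩)).1 ⟨y.1, hxW _⟩ = _
    rw [frac_val, hab _ y.1 (hxW _) y.2]
    refine LocalizedModule.mk_eq.2 ⟨1, ?_⟩
    simp only [one_smul, Submonoid.smul_def, smul_eq_mul, Algebra.algebraMap_self, RingHom.id_apply]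
    ring

end Groth.Agent.Div57.KQuot
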