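import Groth.Agent.MeroDepth.Basic
import Groth.Agent.AssLib.Basic

/-!
# Depth one generizations where a meromorphic function is not regular
-/

set_option autoImplicit false
universe u

open CategoryTheory AlgebraicGeometry TopologicalSpace IsLocalRing Groth.Agent.MeroDepth

namespace Groth.Agent.Div57.MeroDepth2

variable {X : Scheme.{u}} [IsLocallyNoetherian X]

/-- A unit meromorphic function not regular at `x` is not regular at some depth-one generization, with the specialization. -/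
theorem exists_depth_one_point' {U : X.Opens} (f : (Γ(Mero.kmod X, U))ˣ) (x : U)
    (hf : ¬ Reg x.1 (Mero.evalK X U x f.val)) :
    ∃ y : U, LocCoh.depth (X.presheaf.stalk y.1) (X.presheaf.stalk y.1) = 1 ∧
      y.1 ⤳ x.1 ∧ ¬ Reg y.1 (Mero.evalK X U y f.val) := by
  obtain ⟨W, hxW, i, a₀, b₀, hab⟩ := f.val.2 x
  obtain ⟨V, hV, hxV, hVW⟩ := exists_isAffineOpen_mem_and_subset (X := X) (x := x.1) (U := W) hxW
  haveI : IsNoetherianRing Γ(X, V) := IsLocallyNoetherian.component_noetherian ⟨V, hV⟩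
  replace hVW : V ≤ W := hVW
  let a : Γ(X, V) := X.presheaf.map (homOfLE hVW).op a₀
  let b : Γ(X, V) := X.presheaf.map (homOfLE hVW).op b₀.1
  have hb : b ∈ nonZeroDivisors Γ(X, V) :=
    MeroX.regSub_eq_nonZeroDivisors hV ▸ Mero.regSub_res _ b₀.2
  have hreg : ∀ (y : X) (hy : y ∈ V), Reg y (Mero.evalK X U ⟨y, i.le (hVW hy)⟩ f.val) ↔
      ∃ c ∉ (hV.primeIdealOf ⟨y, hy⟩).asIdeal, b ∣ c * a := by
    intro y hy
    letI := X.presheaf.algebra_section_stalk (U := V) ⟨y, hy⟩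
    haveI := hV.isLocalization_stalk ⟨y, hy⟩
    refine Iff.trans ?_ (algebraMap_dvd_iff (hV.primeIdealOf ⟨y, hy⟩).asIdeal.primeCompl (X.presheaf.stalk y) a b)
    have hval : Mero.evalK X U ⟨y, i.le (hVW hy)⟩ f.val =
        LocalizedModule.mk (X.presheaf.germ W y (hVW hy) a₀) (Mero.regGerm ⟨y, hVW hy⟩ b₀) :=
      hab ⟨y, hVW hy⟩
    have ea : algebraMap Γ(X, V) (X.presheaf.stalk y) a = X.presheaf.germ W y (hVW hy) a₀ :=
      TopCat.Presheaf.germ_res_apply X.presheaf (homOfLE hVW) y hy a₀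
    have eb : algebraMap Γ(X, V) (X.presheaf.stalk y) b = X.presheaf.germ W y (hVW hy) b₀.1 :=
      TopCat.Presheaf.germ_res_apply X.presheaf (homOfLE hVW) y hy b₀.1
    rw [ea, eb]
    constructor
    · rintro ⟨s, hs⟩
      refine ⟨s, Mero.algebraMap_KStalk_injective y ?_⟩
      rw [map_mul, hs, hval]
      change _ = (LocalizedModule.mk (X.presheaf.germ W y (hVW hy) b₀.1) 1 : Mero.KStalk X y) * _
      refine Eq.trans ?_ LocalizedModule.mk_mul_mk.symm
      change (LocalizedModule.mk (X.presheaf.germ W y (hVW hy) a₀) 1 : Mero.KStalk X y) = _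
      exact LocalizedModule.mk_eq.2 ⟨1, by simp [Submonoid.smul_def, mul_comm]⟩
    · rintro ⟨s, hs⟩
      refine ⟨s, ?_⟩
      rw [hval]
      change (LocalizedModule.mk s 1 : Mero.KStalk X y) = _
      exact LocalizedModule.mk_eq.2 ⟨1, by simp [Submonoid.smul_def, hs, mul_comm]⟩
  have hf' : ∀ c : Γ(X, V), c ∉ (hV.primeIdealOf ⟨x.1, hxV⟩).asIdeal → ¬ b ∣ c * a :=
    fun c hc h => hf ((hreg x.1 hxV).mpr ⟨c, hc, h⟩)
  obtain ⟨q, hqle, hdepth, hq⟩ := exists_depth_one_prime _ a b hb hf'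
  have hyV : hV.fromSpec q ∈ V := by
    rw [← SetLike.mem_coe, ← hV.range_fromSpec]
    exact Set.mem_range_self q
  haveI := hV.isOpenImmersion_fromSpec
  have hq' : hV.primeIdealOf ⟨hV.fromSpec q, hyV⟩ = q :=
    hV.fromSpec.isOpenEmbedding.injective (hV.fromSpec_primeIdealOf _)
  letI := X.presheaf.algebra_section_stalk (U := V) ⟨hV.fromSpec q, hyV⟩
  haveI : IsLocalization.AtPrime (X.presheaf.stalk (hV.fromSpec q)) q.asIdeal := by
    have := hV.isLocalization_stalk ⟨hV.fromSpec q, hyV⟩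
    rwa [hq'] at this
  refine ⟨⟨hV.fromSpec q, i.le (hVW hyV)⟩, ?_, ?_, fun h => ?_⟩
  · exact (Alg6.depth_localized_eq q.asIdeal _
      (Algebra.linearMap Γ(X, V) (X.presheaf.stalk (hV.fromSpec q)))).trans hdepth
  · exact (AssLib.primeIdealOf_le_iff hV hxV hyV).1 (by rw [hq']; exact hqle)
  · obtain ⟨c, hc, hcd⟩ := (hreg _ hyV).mp h
    rw [hq'] at hc
    exact hq c hc hcd

end Groth.Agent.Div57.MeroDepth2
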