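import Groth.Agent.Div57.SmoothImm
import Groth.Agent.CIntLib.RegFlatBase

/-!
# Composition of regular closed immersions
-/

universe u

set_option autoImplicit false
set_option backward.isDefEq.respectTransparency false
set_option backward.isDefEq.respectTransparency.types false
set_option linter.style.haveILetI false

open CategoryTheory CategoryTheory.Limits AlgebraicGeometry RingTheory.Sequence Groth.Agent

namespace Groth.Agent.Div57.RegClosed

variable {X Y Z : Scheme.{u}}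

/-- A weakly regular sequence cutting out a subscheme through a point is regular. -/
theorem isRegular_of_mem (i : Z ⟶ X) (U : X.affineOpens) (z : Z) (hz : i z ∈ U.1) (rs : List Γ(X, U.1))
    (h : IsWeaklyRegular Γ(X, U.1) rs) (hI : i.ker.ideal U = Ideal.ofList rs) :
    IsRegular Γ(X, U.1) rs := by
  refine ⟨h, fun he => ?_⟩
  rw [smul_eq_mul, Ideal.mul_top] at he
  have hy : i z ∈ i.ker.support := Scheme.Hom.range_subset_ker_support _ ⟨z, rfl⟩
  have := (Scheme.IdealSheafData.mem_support_iff_of_mem (U := U) hz).mp hy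
  rw [hI, ← he, Scheme.mem_zeroLocus_iff] at this
  exact this 1 Submodule.mem_top (by simp [hz])

/-- Sequences restrict to basic opens. -/
theorem exists_seq_basicOpen (i : Z ⟶ X) {U : X.Opens} (hU : IsAffineOpen U) (g : Γ(X, U)) (rs : List Γ(X, U))
    (h : IsWeaklyRegular Γ(X, U) rs) (hI : i.ker.ideal ⟨U, hU⟩ = Ideal.ofList rs) {O : X.Opens}
    (hO : IsAffineOpen O) (e : O = X.basicOpen g) :
    ∃ rs' : List Γ(X, O), IsWeaklyRegular Γ(X, O) rs' ∧ i.ker.ideal ⟨O, hO⟩ = Ideal.ofList rs' := by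
  subst e
  letI : Algebra Γ(X, U) Γ(X, X.basicOpen g) := (X.presheaf.map (homOfLE (X.basicOpen_le g)).op).hom.toAlgebra
  haveI := hU.isLocalization_basicOpen g
  haveI : Module.Flat Γ(X, U) Γ(X, X.basicOpen g) := IsLocalization.flat _ (Submonoid.powers g)
  refine ⟨rs.map (algebraMap Γ(X, U) Γ(X, X.basicOpen g)), h.of_flat, ?_⟩
  refine (i.ker.map_ideal_basicOpen ⟨U, hU⟩ g).symm.trans ?_
  rw [hI, Ideal.map_ofList]
  rfl

/-- The composition of two regular closed immersions. -/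
theorem comp (i : Z ⟶ Y) (j : Y ⟶ X) (hi : Mor2.IsRegularClosedImmersion i)
    (hj : Mor2.IsRegularClosedImmersion j) : Mor2.IsRegularClosedImmersion (i ≫ j) := by
  haveI := hi.1
  haveI := hj.1
  refine ⟨inferInstance, fun z => ?_⟩
  obtain ⟨U, hU, hzU, rs, hrs, hIj⟩ := hj.2 (i z)
  obtain ⟨V, hV, hzV, ss, hss, hIi⟩ := hi.2 z
  have hU' : IsAffineOpen (j ⁻¹ᵁ U) := hU.preimage j
  obtain ⟨g, g', hgg, hzg⟩ := exists_basicOpen_le_affine_inter hU' hV (i z) ⟨hzU, hzV⟩
  obtain ⟨G, rfl⟩ := j.app_surjective U hU g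
  let U₁ := X.basicOpen G
  have hU₁ : IsAffineOpen U₁ := hU.basicOpen G
  have hpre : j ⁻¹ᵁ U₁ = Y.basicOpen g' := (Scheme.preimage_basicOpen j G).trans hgg
  obtain ⟨rs', hrs', hI₁⟩ := exists_seq_basicOpen j hU G rs hrs.1 hIj hU₁ rfl
  obtain ⟨ss', hss', hI₂⟩ := exists_seq_basicOpen i hV g' ss hss.1 hIi (hU₁.preimage j) hpre
  have hsurj : Function.Surjective (j.app U₁).hom := j.app_surjective U₁ hU₁
  choose t ht using fun b => hsurj b
  let tt := ss'.map t
  have htt : tt.map (j.app U₁).hom = ss' := by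
    rw [List.map_map]
    exact (List.map_congr_left fun a _ => ht a).trans (List.map_id ss')
  rw [Scheme.Hom.ker_apply] at hI₁ hI₂
  have hker : RingHom.ker ((i ≫ j).app U₁).hom = Ideal.ofList (rs' ++ tt) := by
    rw [Scheme.Hom.comp_app, CommRingCat.hom_comp, ← RingHom.comap_ker, hI₂, ← htt, ← Ideal.map_ofList,
      Ideal.comap_map_of_surjective _ hsurj, ← RingHom.ker_eq_comap_bot, hI₁, Ideal.ofList_append, sup_comm]
  have hw : IsWeaklyRegular Γ(X, U₁) (rs' ++ tt) := by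
    letI : Algebra Γ(X, U₁) Γ(Y, j ⁻¹ᵁ U₁) := (j.app U₁).hom.toAlgebra
    refine (isWeaklyRegular_append_iff _ _ _).2 ⟨hrs', ?_⟩
    let e : (Γ(X, U₁) ⧸ (Ideal.ofList rs' • ⊤ : Submodule Γ(X, U₁) Γ(X, U₁))) ≃ₗ[Γ(X, U₁)] Γ(Y, j ⁻¹ᵁ U₁) :=
      (Submodule.quotEquivOfEq _ _ (by
        rw [smul_eq_mul, Ideal.mul_top, ← hI₁]
        rfl)).trans ((Algebra.linearMap Γ(X, U₁) Γ(Y, j ⁻¹ᵁ U₁)).quotKerEquivOfSurjective hsurj)
    rw [e.isWeaklyRegular_congr, ← isWeaklyRegular_map_algebraMap_iff Γ(Y, j ⁻¹ᵁ U₁)]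
    exact htt.symm ▸ hss'
  have hzU₁ : (i ≫ j) z ∈ U₁ := by
    show i z ∈ j ⁻¹ᵁ U₁
    rw [Scheme.preimage_basicOpen]
    exact hzg
  have hI : (i ≫ j).ker.ideal ⟨U₁, hU₁⟩ = Ideal.ofList (rs' ++ tt) := (Scheme.Hom.ker_apply _ _).trans hker
  exact ⟨U₁, hU₁, hzU₁, _, isRegular_of_mem (i ≫ j) ⟨U₁, hU₁⟩ z hzU₁ _ hw hI, hI⟩

/-- A lift of a regular closed immersion to a smooth scheme. -/
theorem lift_to_smooth {S : Scheme.{u}} (p : X ⟶ S) [Smooth p] (i : Y ⟶ X) (j : Y ⟶ S) [IsClosedImmersion i]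
    [IsClosedImmersion j] (h : i ≫ p = j) (hj : Mor2.IsRegularClosedImmersion j) :
    Mor2.IsRegularClosedImmersion i := by
  let s : Y ⟶ pullback j p := pullback.lift (𝟙 Y) i (by rw [Category.id_comp, h])
  have hs : s ≫ pullback.fst j p = 𝟙 Y := pullback.lift_fst _ _ _
  have hi : s ≫ pullback.snd j p = i := pullback.lift_snd _ _ _
  haveI : IsClosedImmersion (s ≫ pullback.snd j p) := by rw [hi]; infer_instance
  haveI : IsClosedImmersion s := IsClosedImmersion.of_comp s (pullback.snd j p)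
  rw [← hi]
  exact comp _ _ (SmoothImm.of_section (pullback.fst j p) s hs)
    (CIntLib.isRegularClosedImmersion_pullback_snd j p hj)

end Groth.Agent.Div57.RegClosed
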