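import Groth.Prelude.Def_BlowUp2
import Groth.Agent.MeroX.EffCartier
import Groth.Agent.CIntLib.ClosedStalk
import Groth.Agent.H23.StalkPrimes
import Groth.Agent.QCoh.Support

/-!
# Stalks of ideal sheaves
-/

universe u

set_option autoImplicit false
set_option backward.isDefEq.respectTransparency false
set_option backward.isDefEq.respectTransparency.types false
set_option linter.style.haveILetI false

open CategoryTheory AlgebraicGeometry TopologicalSpace Groth.Agent

namespace Groth.Agent.Div57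

variable {X : Scheme.{u}} (D : X.IdealSheafData)

theorem exists_aff {X : Scheme.{u}} (x : X) : ∃ U : X.Opens, IsAffineOpen U ∧ x ∈ U :=
  let ⟨U, h, hx, _⟩ := exists_isAffineOpen_mem_and_subset (x := x) (U := ⊤) trivial
  ⟨U, h, hx⟩

/-- The stalk of an ideal sheaf. -/
noncomputable def stI (x : X) : Ideal (X.presheaf.stalk x) :=
  ⨆ (U : X.affineOpens) (hx : x ∈ U.1), (D.ideal U).map (X.presheaf.germ U.1 x hx).hom

theorem stI_eq {x : X} (U : X.affineOpens) (hx : x ∈ U.1) :
    stI D x = (D.ideal U).map (X.presheaf.germ U.1 x hx).hom := by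
  refine le_antisymm (iSup₂_le fun V hxV => le_of_eq ?_) (le_iSup₂ (f := fun (V : X.affineOpens) (h : x ∈ V.1) =>
    (D.ideal V).map (X.presheaf.germ V.1 x h).hom) U hx)
  obtain ⟨r, s, h, hxr⟩ := exists_basicOpen_le_affine_inter U.2 V.2 x ⟨hx, hxV⟩
  let W : X.affineOpens := ⟨X.basicOpen r, U.2.basicOpen r⟩
  have key : ∀ (V : X.affineOpens) (hxV : x ∈ V.1), W.1 ≤ V.1 →
      (D.ideal V).map (X.presheaf.germ V.1 x hxV).hom = (D.ideal W).map (X.presheaf.germ W.1 x hxr).hom := by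
    intro V hxV hle
    rw [← D.map_ideal (U := W) (V := V) hle, Ideal.map_map]
    congr 1
    rw [← CommRingCat.hom_comp]
    exact congrArg _ (TopCat.Presheaf.germ_res X.presheaf (homOfLE hle) x hxr).symm
  exact (key V hxV (h.le.trans (X.basicOpen_le s))).trans (key U hx (X.basicOpen_le r)).symm

theorem stI_map {x y : X} (h : y ⤳ x) :
    (stI D x).map (X.presheaf.stalkSpecializes h).hom = stI D y := by
  obtain ⟨U, hU, hxU⟩ := exists_aff x
  rw [stI_eq D ⟨U, hU⟩ hxU, stI_eq D ⟨U, hU⟩ (h.mem_open U.isOpen hxU), Ideal.map_map]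
  congr 1
  rw [← CommRingCat.hom_comp, TopCat.Presheaf.germ_stalkSpecializes]

theorem mem_support_iff {x : X} : x ∈ D.support ↔ stI D x ≠ ⊤ := by
  obtain ⟨U, hU, hxU⟩ := exists_aff x
  rw [stI_eq D ⟨U, hU⟩ hxU, Scheme.IdealSheafData.mem_support_iff_of_mem (U := ⟨U, hU⟩) hxU,
    Scheme.mem_zeroLocus_iff]
  constructor
  · intro h htop
    have h1 : (1 : X.presheaf.stalk x) ∈ (D.ideal ⟨U, hU⟩).map (X.presheaf.germ U x hxU).hom :=
      htop ▸ Submodule.mem_top
    have h2 : (D.ideal ⟨U, hU⟩).map (X.presheaf.germ U x hxU).hom ≤ IsLocalRing.maximalIdeal _ :=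
      Ideal.map_le_iff_le_comap.2 fun a ha hu => h a ha ((X.mem_basicOpen a x hxU).2 hu)
    exact h2 h1 isUnit_one
  · exact fun h a ha hxa => h (Ideal.eq_top_of_isUnit_mem _ (Ideal.mem_map_of_mem _ ha)
      ((X.mem_basicOpen a x hxU).1 hxa))

theorem ker_stalkMap (z : D.subscheme) :
    RingHom.ker (D.subschemeι.stalkMap z).hom = stI D (D.subschemeι z) := by
  obtain ⟨U, hU, hxU⟩ := exists_aff (D.subschemeι z)
  rw [CIntLib.ker_stalkMap_eq_map_germ D.subschemeι z ⟨U, hU⟩ hxU, Scheme.IdealSheafData.ker_subschemeι,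
    stI_eq D ⟨U, hU⟩ hxU]

/-- An effective Cartier ideal has regular principal stalks. -/
theorem stI_of_effCartier (hD : BlowUp.IsEffCartierIdeal D) (x : X) :
    ∃ f : X.presheaf.stalk x, f ∈ nonZeroDivisors (X.presheaf.stalk x) ∧ stI D x = Ideal.span {f} := by
  obtain ⟨U, hxU, f, hf, hI⟩ := hD x
  refine ⟨X.presheaf.germ U.1 x hxU f, ?_, by rw [stI_eq D U hxU, hI, Ideal.map_span, Set.image_singleton]⟩
  letI := (X.presheaf.germ U.1 x hxU).hom.toAlgebra
  haveI : IsLocalization.AtPrime (X.presheaf.stalk x) (U.2.primeIdealOf ⟨x, hxU⟩).asIdeal :=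
    U.2.isLocalization_stalk ⟨x, hxU⟩
  exact IsLocalization.map_nonZeroDivisors_le (U.2.primeIdealOf ⟨x, hxU⟩).asIdeal.primeCompl _
    (Submonoid.mem_map_of_mem _ hf)

/-- Principal regular stalks make an effective Cartier ideal. -/
theorem isEffCartier_of_stI [IsLocallyNoetherian X]
    (h : ∀ x ∈ D.support, ∃ g ∈ nonZeroDivisors (X.presheaf.stalk x), stI D x = Ideal.span {g}) :
    BlowUp.IsEffCartierIdeal D :=
  MeroX.isEffCartier_of_stalk D fun x hx U hxU => by
    obtain ⟨g, hg, hI⟩ := h x hx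
    exact ⟨g, hg, by rw [← stI_eq D U hxU, hI]⟩

end Groth.Agent.Div57
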