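import Groth.Agent.CIntLib.TransRegSch
import Groth.Agent.Div57.StIdeal
import Groth.Agent.Div57.Desc.Sheaf

/-!
# Effective Cartier divisors from the fibres
-/

universe u

set_option autoImplicit false
set_option backward.isDefEq.respectTransparency false
set_option backward.isDefEq.respectTransparency.types false
set_option linter.style.haveILetI false

open CategoryTheory AlgebraicGeometry RingTheory.Sequence IsLocalRing Groth.Agent Groth.Agent.CIntLib

namespace Groth.Agent.Div57.RelCartier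

variable {X Y S : Scheme.{u}}

/-- A regular sequence on the fibre lifts, with the same length, to generators near the point. -/
theorem exists_regular_nhd_length (u : Y ⟶ X) [IsClosedImmersion u] (g : X ⟶ S)
    [LocallyOfFinitePresentation g] [LocallyOfFinitePresentation (u ≫ g)] (y : Y)
    (hfl : ((u ≫ g).stalkMap y).hom.Flat) (hflat : (g.stalkMap (u y)).hom.Flat)
    (s : S) (w : ↥((u ≫ g).fiber s)) (hy : (u ≫ g).fiberι s w = y)
    (fs : List ((g.fiber s).presheaf.stalk (CInt.fiberMap u g s w)))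
    (hfs : IsWeaklyRegular ((g.fiber s).presheaf.stalk (CInt.fiberMap u g s w)) fs)
    (hfI : Ideal.ofList fs = RingHom.ker ((CInt.fiberMap u g s).stalkMap w).hom) :
    ∃ (U : X.Opens) (hU : IsAffineOpen U), u y ∈ U ∧ ∃ rs : List Γ(X, U), rs.length = fs.length ∧
      RingTheory.Sequence.IsRegular Γ(X, U) rs ∧ u.ker.ideal ⟨U, hU⟩ = Ideal.ofList rs := by
  haveI : LocallyOfFinitePresentation u := Groth.Agent.S12442.result u g
  have hsq : CInt.fiberMap u g s ≫ g.fiberι s = (u ≫ g).fiberι s ≫ u := Limits.pullback.lift_fst _ _ _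
  have hv : g.fiberι s (CInt.fiberMap u g s w) = u y := by
    rw [← Scheme.Hom.comp_apply, hsq, Scheme.Hom.comp_apply, hy]
  set φ := FibFlat.sm (g.fiberι s) (CInt.fiberMap u g s w) (u y) hv
  have hφ : Function.Surjective φ := FibFlat.surjective_sm _ _ _
  have hM : RingHom.ker φ = (maximalIdeal (S.presheaf.stalk (g (u y)))).map (g.stalkMap (u y)).hom := by
    rw [FibFlat.ker_sm_fiberι g s _ (u y) hv, FibFlat.sm_self]
  rw [ker_fiberMap_stalkMap u g s w y hy hv] at hfI
  set I := RingHom.ker (u.stalkMap y).hom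
  have hlift : ∀ r ∈ fs, ∃ a ∈ I, φ a = r := fun r hr =>
    (Ideal.mem_map_iff_of_surjective φ hφ).1 (hfI ▸ Ideal.subset_span hr)
  obtain ⟨hs, hhs, hhsI⟩ : ∃ hs : List (X.presheaf.stalk (u y)), hs.map φ = fs ∧ ∀ a ∈ hs, a ∈ I := by
    clear hfs hfI
    induction fs with
    | nil => exact ⟨[], rfl, by simp⟩
    | cons r fs ih =>
      obtain ⟨a, ha, rfl⟩ := hlift r (by simp)
      obtain ⟨hs, h1, h2⟩ := ih (fun r hr => hlift r (by simp [hr]))
      exact ⟨a :: hs, by simp [h1], by simpa using ⟨ha, h2⟩⟩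
  have hle : Ideal.ofList hs ≤ I := Ideal.span_le.2 fun a ha => hhsI a ha
  have hcomap : ∀ l : List (X.presheaf.stalk (u y)), (Ideal.ofList (l.map φ)).comap φ =
      Ideal.ofList l ⊔ (maximalIdeal (S.presheaf.stalk (g (u y)))).map (g.stalkMap (u y)).hom := fun l => by
    rw [← Ideal.map_ofList, Ideal.comap_map_of_surjective φ hφ, ← RingHom.ker_eq_comap_bot, hM]
  have hgen : I ≤ Ideal.ofList hs ⊔ (maximalIdeal (S.presheaf.stalk (g (u y)))).map (g.stalkMap (u y)).hom := by
    rw [← hcomap, hhs, hfI]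
    exact Ideal.le_comap_map
  have heq : Ideal.ofList hs = I := by
    letI := (g.stalkMap (u y)).hom.toAlgebra
    haveI : IsLocalHom (algebraMap (S.presheaf.stalk (g (u y))) (X.presheaf.stalk (u y))) :=
      inferInstanceAs (IsLocalHom (g.stalkMap (u y)).hom)
    haveI : Module.Flat (S.presheaf.stalk (g (u y))) (X.presheaf.stalk (u y) ⧸ I) := flat_quotient_stalk u g y hfl
    exact ofList_eq_of_fibre (C := S.presheaf.stalk (g (u y))) I (fg_ker_stalkMap u y) hs hle hgen
  obtain ⟨V, hV, U, hU, hxU, -, e, hs', hgerm, -, hwr, -⟩ := Triage.SliceFlat.exists_slice_sch g (u y) hflat hs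
    (mem_maximalIdeal_of_regAt _ heq) (fun i hi z hz => by
      rw [← hcomap] at hz ⊢
      rw [Ideal.mem_comap, map_mul, List.map_take, hhs] at hz
      rw [Ideal.mem_comap, List.map_take, hhs]
      have hi' : i < fs.length := by rw [← hhs]; simpa using hi
      have hreg := hfs.regular_mod_prev i hi'
      rw [isSMulRegular_quotient_iff_mem_of_smul_mem] at hreg
      have := hreg (φ z) (by
        rw [smul_eq_mul, smul_eq_mul, Ideal.mul_top]
        convert hz using 2
        simp only [← hhs, List.getElem_map])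
      rwa [smul_eq_mul, Ideal.mul_top] at this) ⊤ trivial
  letI := (X.presheaf.germ U (u y) hxU).hom.toAlgebra
  haveI : IsLocalization.AtPrime (X.presheaf.stalk (u y)) (hU.primeIdealOf ⟨u y, hxU⟩).asIdeal :=
    hU.isLocalization_stalk ⟨u y, hxU⟩
  classical
  obtain ⟨t, ht, hteq⟩ := exists_away_eq_of_map_eq (T := X.presheaf.stalk (u y)) (hU.primeIdealOf ⟨u y, hxU⟩).asIdeal
    (I := u.ker.ideal ⟨U, hU⟩) (J := Ideal.ofList hs') (ideal_ker_fg u ⟨U, hU⟩)
    ⟨hs'.toFinset, by rw [Ideal.ofList]; congr 1; ext; simp⟩ (by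
      rw [Ideal.map_ofList]
      exact (ker_stalkMap_eq_map_germ u y ⟨U, hU⟩ hxU).symm.trans (heq.symm.trans (congrArg Ideal.ofList hgerm.symm)))
  letI : Algebra Γ(X, U) Γ(X, X.basicOpen t) := (X.presheaf.map (homOfLE (X.basicOpen_le t)).op).hom.toAlgebra
  haveI : IsLocalization.Away t Γ(X, X.basicOpen t) := hU.isLocalization_basicOpen t
  have hideal : u.ker.ideal ⟨X.basicOpen t, hU.basicOpen t⟩ =
      Ideal.ofList (hs'.map (algebraMap Γ(X, U) Γ(X, X.basicOpen t))) := by
    rw [← u.ker.map_ideal (U := ⟨X.basicOpen t, hU.basicOpen t⟩) (V := ⟨U, hU⟩) (X.basicOpen_le t),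
      ← Ideal.map_ofList]
    exact hteq Γ(X, X.basicOpen t) (IsLocalization.Away.algebraMap_isUnit t)
  have hyt : u y ∈ X.basicOpen t := by
    rw [X.mem_basicOpen t (u y) hxU]
    exact IsLocalization.map_units (X.presheaf.stalk (u y)) (⟨t, ht⟩ : (hU.primeIdealOf ⟨u y, hxU⟩).asIdeal.primeCompl)
  refine ⟨X.basicOpen t, hU.basicOpen t, hyt, _, ?_, ⟨hwr.of_isLocalization _ (Submonoid.powers t), ?_⟩, hideal⟩
  · rw [List.length_map, ← hhs, List.length_map, ← hgerm, List.length_map]
  intro htop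
  rw [smul_eq_mul, Ideal.mul_top, ← hideal] at htop
  have hsupp := (Scheme.IdealSheafData.mem_support_iff_of_mem (U := ⟨X.basicOpen t, hU.basicOpen t⟩) hyt).mp
    (Scheme.Hom.range_subset_ker_support u ⟨y, rfl⟩)
  rw [← htop, Scheme.mem_zeroLocus_iff] at hsupp
  exact hsupp 1 Submodule.mem_top (by simp [hyt])

/-- A divisor flat over the base, Cartier on the fibres. -/
theorem isEffCartier_of_fibres (φ : X ⟶ S) [Flat φ] [LocallyOfFinitePresentation φ] (I : X.IdealSheafData)
    [Flat (I.subschemeι ≫ φ)] [LocallyOfFinitePresentation (I.subschemeι ≫ φ)]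
    (hfib : ∀ s : S, BlowUp.IsEffCartierIdeal (I.comap (φ.fiberι s))) : BlowUp.IsEffCartierIdeal I := by
  intro x
  by_cases hx : x ∈ I.support
  · obtain ⟨y, rfl⟩ : x ∈ Set.range I.subschemeι := by
      rw [Scheme.IdealSheafData.range_subschemeι]; exact hx
    set u := I.subschemeι
    obtain ⟨s, hs⟩ : ∃ s, (u ≫ φ) y = s := ⟨_, rfl⟩
    obtain ⟨w, hw⟩ : ∃ w : (u ≫ φ).fiber s, (u ≫ φ).fiberι s w = y := by
      have : y ∈ Set.range ((u ≫ φ).fiberι s) := by rw [Scheme.Hom.range_fiberι]; exact hs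
      exact this
    have hsq : CInt.fiberMap u φ s ≫ φ.fiberι s = (u ≫ φ).fiberι s ≫ u := Limits.pullback.lift_fst _ _ _
    have hv : φ.fiberι s (CInt.fiberMap u φ s w) = u y := by
      rw [← Scheme.Hom.comp_apply, hsq, Scheme.Hom.comp_apply, hw]
    haveI : IsClosedImmersion (CInt.fiberMap u φ s) := MorphismProperty.of_isPullback (P := @IsClosedImmersion) (Triage.SliceFlat.isPullback_map u φ (u ≫ φ) (S.fromSpecResidueField s) (by simp) (by simp)).flip inferInstance
    obtain ⟨t, ht, hIt⟩ := stI_of_effCartier _ (hfib s) (CInt.fiberMap u φ s w)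
    have hker : Ideal.ofList [t] = RingHom.ker ((CInt.fiberMap u φ s).stalkMap w).hom := by
      have key : ∀ (z : X) (h : φ.fiberι s (CInt.fiberMap u φ s w) = z),
          (stI I z).map (FibFlat.sm (φ.fiberι s) (CInt.fiberMap u φ s w) z h) =
            stI (I.comap (φ.fiberι s)) (CInt.fiberMap u φ s w) := by
        rintro z rfl
        rw [FibFlat.sm_self, Desc.stI_comap]
      rw [Ideal.ofList_singleton, ← hIt, ker_fiberMap_stalkMap u φ s w y hw hv, ker_stalkMap, key]
    obtain ⟨U, hU, hyU, rs, hlen, hrs, hI⟩ := exists_regular_nhd_length u φ y (Flat.stalkMap (u ≫ φ) y)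
      (Flat.stalkMap φ (u y)) s w hw [t] (by
        refine IsWeaklyRegular.cons ?_ (IsWeaklyRegular.nil _ _)
        exact isSMulRegular_iff_right_eq_zero_of_smul.2 fun z hz =>
          mem_nonZeroDivisors_iff_right.1 ht z (by rwa [mul_comm])) hker
    obtain ⟨r, rfl⟩ := List.length_eq_one_iff.1 hlen
    refine ⟨⟨U, hU⟩, hyU, r, ?_, ?_⟩
    · refine mem_nonZeroDivisors_iff_right.2 fun z hz => ?_
      exact ((isWeaklyRegular_cons_iff _ _ _).1 hrs.1).1 (show r • z = r • (0 : Γ(X, U)) by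
        rw [smul_zero, smul_eq_mul, mul_comm]; exact hz)
    · rw [← Scheme.IdealSheafData.ker_subschemeι I, hI, Ideal.ofList_singleton]
  · obtain ⟨U, hU, hxU, hUI⟩ := exists_isAffineOpen_mem_and_subset (x := x) (U := I.support.compl) hx
    refine ⟨⟨U, hU⟩, hxU, 1, one_mem _, ?_⟩
    rw [Ideal.span_singleton_one]
    refine (Ideal.eq_top_iff_one _).2 (Desc.mem_ideal_of_stI I ⟨U, hU⟩ 1 fun z hz => ?_)
    have : stI I z = ⊤ := not_not.1 fun h => hUI hz ((mem_support_iff I).2 h)
    rw [this]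
    exact Submodule.mem_top

end Groth.Agent.Div57.RelCartier
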