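import Groth.Agent.Div57.RelCartier
import Groth.Agent.FlatX.RelCartier

/-!
# Locally principal ideals which are Cartier on the fibres
-/

universe u

set_option autoImplicit false
set_option backward.isDefEq.respectTransparency false
set_option backward.isDefEq.respectTransparency.types false
set_option linter.style.haveILetI false

open CategoryTheory AlgebraicGeometry RingTheory.Sequence IsLocalRing Groth.Agent Groth.Agent.CIntLib

namespace Groth.Agent.Div57.RelCartier

variable {X S : Scheme.{u}}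

/-- Localisation keeps the flatness of a quotient. -/
theorem flat_quot_isLocalization {A B C : Type u} [CommRing A] [CommRing B] [CommRing C] [Algebra A B]
    [Algebra A C] [Algebra B C] [IsScalarTower A B C] (M : Submonoid B) [IsLocalization M C] (I : Ideal B)
    (h : Module.Flat A (B ⧸ I)) : Module.Flat A (C ⧸ I.map (algebraMap B C)) := by
  haveI : IsScalarTower A (B ⧸ I) (C ⧸ I.map (algebraMap B C)) := by
    refine IsScalarTower.of_algebraMap_eq fun x => ?_
    change _ = Ideal.Quotient.mk _ (algebraMap B C (algebraMap A B x))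
    rw [← IsScalarTower.algebraMap_apply]
    rfl
  haveI : Module.Flat (B ⧸ I) (C ⧸ I.map (algebraMap B C)) :=
    IsLocalization.flat _ (Algebra.algebraMapSubmonoid (B ⧸ I) M)
  exact Module.Flat.trans A (B ⧸ I) _

/-- Near a point of a locally principal ideal which is Cartier on the fibre there is a flat regular chart. -/
theorem exists_chart_of_fibre (φ : X ⟶ S) [LocallyOfFinitePresentation φ] (I : X.IdealSheafData) (x : X)
    (hflat : (φ.stalkMap x).hom.Flat) (hx : x ∈ I.support) (U₀ : X.affineOpens) (hxU : x ∈ U₀.1)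
    (r : Γ(X, U₀.1)) (hr : I.ideal U₀ = Ideal.span {r})
    (hfib : BlowUp.IsEffCartierIdeal (I.comap (φ.fiberι (φ x)))) :
    ∃ (W : S.affineOpens) (U : X.affineOpens) (e : U.1 ≤ φ ⁻¹ᵁ W.1),
      x ∈ U.1 ∧ FlatX.LocGen I U ∧ (FlatX.quotApp φ I W U e).Flat := by
  set s := φ x
  set v := φ.asFiber x
  have hv : φ.fiberι s v = x := φ.fiberι_asFiber x
  set π := FibFlat.sm (φ.fiberι s) v x hv
  have hπ : Function.Surjective π := FibFlat.surjective_sm _ _ _
  set M := (maximalIdeal (S.presheaf.stalk (φ x))).map (φ.stalkMap x).hom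
  have hM : RingHom.ker π = M := by
    rw [FibFlat.ker_sm_fiberι φ s v x hv, FibFlat.sm_self]
  set a := X.presheaf.germ U₀.1 x hxU r
  have hIa : stI I x = Ideal.span {a} := by
    rw [stI_eq I U₀ hxU, hr, Ideal.map_span, Set.image_singleton]
  obtain ⟨t, ht, hIt⟩ := stI_of_effCartier _ hfib v
  have key : ∀ (z : X) (h : φ.fiberι s v = z),
      (stI I z).map (FibFlat.sm (φ.fiberι s) v z h) = stI (I.comap (φ.fiberι s)) v := by
    rintro z rfl
    rw [FibFlat.sm_self, Desc.stI_comap]
  have hπa : Ideal.span {π a} = Ideal.span {t} := by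
    rw [← hIt, ← key x hv, hIa, Ideal.map_span, Set.image_singleton]
  have hπreg : π a ∈ nonZeroDivisors _ := by
    obtain ⟨b, hb⟩ := Ideal.mem_span_singleton.1 (hπa ▸ Ideal.mem_span_singleton_self t : t ∈ Ideal.span {π a})
    exact (mul_mem_nonZeroDivisors.1 (hb ▸ ht)).1
  have ham : a ∈ maximalIdeal (X.presheaf.stalk x) :=
    IsLocalRing.le_maximalIdeal ((mem_support_iff I).1 hx) (hIa ▸ Ideal.mem_span_singleton_self a)
  obtain ⟨V, hV, U, hU, hxU', hUU₀, e, hs', hgerm, -, hwr, hfl⟩ := Triage.SliceFlat.exists_slice_sch φ x hflat [a]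
    (by simpa using ham) (fun i hi z hz => by
      obtain rfl : i = 0 := by simpa using hi
      simp only [List.take_zero, Ideal.ofList_nil, bot_sup_eq, List.getElem_cons_zero] at hz ⊢
      change _ ∈ M at hz ⊢
      rw [← hM, RingHom.mem_ker, map_mul] at hz
      rw [← hM, RingHom.mem_ker]
      exact mem_nonZeroDivisors_iff_left.1 hπreg _ hz) U₀.1 hxU
  obtain ⟨r', rfl⟩ := List.length_eq_one_iff.1 (by simpa using congrArg List.length hgerm : hs'.length = 1)
  simp only [List.map_cons, List.map_nil, List.cons.injEq, and_true] at hgerm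
  have hr'reg : r' ∈ nonZeroDivisors Γ(X, U) := mem_nonZeroDivisors_iff_right.2 fun z hz =>
    ((isWeaklyRegular_cons_iff _ _ _).1 hwr).1 (show r' • z = r' • (0 : Γ(X, U)) by
      rw [smul_zero, smul_eq_mul, mul_comm]; exact hz)
  obtain ⟨O, hxO, i₁, i₂, heq⟩ := X.presheaf.germ_eq x hxU' hxU' r' (X.presheaf.map (homOfLE hUU₀).op r)
    (by rw [TopCat.Presheaf.germ_res_apply]; exact hgerm)
  obtain ⟨g, hgO, hxg⟩ := hU.exists_basicOpen_le (V := O) ⟨x, hxO⟩ hxU'
  letI : Algebra Γ(X, U) Γ(X, X.basicOpen g) := (X.presheaf.map (homOfLE (X.basicOpen_le g)).op).hom.toAlgebra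
  haveI : IsLocalization.Away g Γ(X, X.basicOpen g) := hU.isLocalization_basicOpen g
  have hrr : X.presheaf.map (homOfLE ((X.basicOpen_le g).trans hUU₀)).op r = algebraMap Γ(X, U) Γ(X, X.basicOpen g) r' := by
    have h2 := congrArg (X.presheaf.map (homOfLE hgO).op) heq
    simp only [← CommRingCat.comp_apply, ← Functor.map_comp] at h2
    exact h2.symm
  have hI : I.ideal ⟨X.basicOpen g, hU.basicOpen g⟩ = Ideal.span {algebraMap Γ(X, U) Γ(X, X.basicOpen g) r'} := by
    rw [← I.map_ideal (U := ⟨X.basicOpen g, hU.basicOpen g⟩) (V := U₀) ((X.basicOpen_le g).trans hUU₀), hr,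
      Ideal.map_span, Set.image_singleton]
    exact congrArg (fun b => Ideal.span {b}) hrr
  refine ⟨⟨V, hV⟩, ⟨X.basicOpen g, hU.basicOpen g⟩, (X.basicOpen_le g).trans e, hxg,
    ⟨_, IsLocalization.map_nonZeroDivisors_le (Submonoid.powers g) _ (Submonoid.mem_map_of_mem _ hr'reg), hI⟩, ?_⟩
  have h1 := hfl 1
  rw [List.take_succ_cons, List.take_zero, Ideal.ofList_singleton] at h1
  letI := (φ.appLE V U e).hom.toAlgebra
  letI := (φ.appLE V (X.basicOpen g) ((X.basicOpen_le g).trans e)).hom.toAlgebra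
  haveI : IsScalarTower Γ(S, V) Γ(X, U) Γ(X, X.basicOpen g) := by
    refine IsScalarTower.of_algebraMap_eq fun w => ?_
    change _ = X.presheaf.map _ (φ.appLE V U e w)
    rw [← CommRingCat.comp_apply, Scheme.Hom.appLE_map]
    rfl
  have h2 := flat_quot_isLocalization (A := Γ(S, V)) (C := Γ(X, X.basicOpen g)) (Submonoid.powers g)
    (Ideal.span {r'}) (RingHom.flat_algebraMap_iff.mp h1)
  rw [Ideal.map_span, Set.image_singleton] at h2
  refine FlatX.flat_congr _ hI.symm ?_
  exact RingHom.flat_algebraMap_iff.mpr h2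

/-- A locally principal ideal which is Cartier on the fibres is a relative effective Cartier divisor. -/
theorem relEffCartier_of_fibres (φ : X ⟶ S) [Flat φ] [LocallyOfFinitePresentation φ] (I : X.IdealSheafData)
    (hZ : Curv2.IsLocPrincipal I)
    (hfib : ∀ s : S, BlowUp.IsEffCartierIdeal (I.comap (φ.fiberι s))) :
    BlowUp.IsEffCartierIdeal I ∧ Flat (I.subschemeι ≫ φ) := by
  have key : ∀ x : X, ∃ (W : S.affineOpens) (U : X.affineOpens) (e : U.1 ≤ φ ⁻¹ᵁ W.1),
      x ∈ U.1 ∧ FlatX.LocGen I U ∧ (FlatX.quotApp φ I W U e).Flat := by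
    intro x
    by_cases hx : x ∈ I.support
    · obtain ⟨U₀, hxU, r, hr⟩ := hZ x hx
      exact exists_chart_of_fibre φ I x (Flat.stalkMap φ x) hx U₀ hxU r hr (hfib _)
    · obtain ⟨W, hxW⟩ := FlatX.exists_chart φ x
      obtain ⟨U, hU, hxU, hUI⟩ := exists_isAffineOpen_mem_and_subset (x := x)
        (U := I.support.compl ⊓ φ ⁻¹ᵁ W.1) ⟨hx, hxW⟩
      have htop : I.ideal ⟨U, hU⟩ = ⊤ :=
        (Ideal.eq_top_iff_one _).2 (Desc.mem_ideal_of_stI I ⟨U, hU⟩ 1 fun z hz => by
          rw [show stI I z = ⊤ from not_not.1 fun h => (hUI hz).1 ((mem_support_iff I).2 h)]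
          exact Submodule.mem_top)
      refine ⟨W, ⟨U, hU⟩, fun z hz => (hUI hz).2, hxU, ⟨1, one_mem _, by rw [htop, Ideal.span_singleton_one]⟩, ?_⟩
      letI := (φ.appLE W.1 U fun z hz => (hUI hz).2).hom.toAlgebra
      haveI : Subsingleton (Γ(X, U) ⧸ I.ideal ⟨U, hU⟩) := Ideal.Quotient.subsingleton_iff.2 htop
      exact RingHom.flat_algebraMap_iff.mpr inferInstance
  refine ⟨fun x => ?_, FlatX.flat_subscheme_of_charts φ _ fun x => ?_⟩
  · obtain ⟨-, U, -, hxU, hg, -⟩ := key x
    exact ⟨U, hxU, hg⟩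
  · obtain ⟨W, U, e, hxU, -, hf⟩ := key x
    exact ⟨W, U, e, hxU, hf⟩

end Groth.Agent.Div57.RelCartier
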