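import Groth.Agent.CIntLib.TransRegSch
import Groth.Agent.GrpSchLib.SmoothRegular

/-!
# Regular immersions into smooth schemes
-/

universe u

set_option autoImplicit false
set_option backward.isDefEq.respectTransparency false
set_option backward.isDefEq.respectTransparency.types false
set_option linter.style.haveILetI false

open CategoryTheory CategoryTheory.Limits AlgebraicGeometry Groth.Agent

namespace Groth.Agent.Div57.SmoothImm

variable {X Y S : Scheme.{u}}

/-- A closed flat subscheme of a smooth scheme with complete intersection fibres is regularly immersed. -/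
theorem regular_of_fibres (p : X ⟶ S) [Smooth p] (i : Y ⟶ X) [IsClosedImmersion i] [Flat (i ≫ p)]
    [LocallyOfFinitePresentation (i ≫ p)]
    (h : ∀ (s : S) (w : (i ≫ p).fiber s), Pi1.IsCompleteIntersection (((i ≫ p).fiber s).presheaf.stalk w)) :
    Mor2.IsRegularClosedImmersion i := by
  refine ((CIntLib.regular_flat_iff_fibrewise i p).2 ⟨fun y => Flat.stalkMap p _, inferInstance, fun s => ?_⟩).2
  haveI : IsClosedImmersion (CInt.fiberMap i p s) :=
    MorphismProperty.of_isPullback (P := @IsClosedImmersion)
      (Triage.SliceFlat.isPullback_map i p (i ≫ p) (S.fromSpecResidueField s) (by simp) (by simp)).flip inferInstance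
  haveI : Smooth (p.fiberToSpecResidueField s) :=
    MorphismProperty.pullback_snd (P := @Smooth) p _ inferInstance
  haveI : IsLocallyNoetherian (p.fiber s) := LocallyOfFiniteType.isLocallyNoetherian (p.fiberToSpecResidueField s)
  refine CIntLib.isRegularClosedImmersion_of_regAt _ fun w => ?_
  haveI : IsRegularLocalRing ((p.fiber s).presheaf.stalk (CInt.fiberMap i p s w)) :=
    GrpSchLib.isRegularLocalRing_stalk_of_smooth (K := S.residueField s) (p.fiberToSpecResidueField s) _
  exact (CIntLib.regAt_iff_isCI _ w).2 (h s w)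

theorem of_ciMorphism (p : X ⟶ S) [Smooth p] (i : Y ⟶ X) [IsClosedImmersion i]
    (hY : CInt.IsCIMorphism (i ≫ p)) : Mor2.IsRegularClosedImmersion i := by
  haveI := hY.1
  haveI := hY.2.1
  refine regular_of_fibres p i fun s w => ?_
  obtain ⟨y, hy⟩ : ∃ y, (i ≫ p).fiberι s w = y := ⟨_, rfl⟩
  obtain rfl : (i ≫ p) y = s := by
    have : y ∈ Set.range ((i ≫ p).fiberι s) := ⟨w, hy⟩
    rw [Scheme.Hom.range_fiberι] at this
    exact this
  have hw : w = (i ≫ p).asFiber y := ((i ≫ p).fiberι _).isEmbedding.injective (hy.trans ((i ≫ p).fiberι_asFiber y).symm)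
  rw [hw]
  exact hY.2.2 y

/-- A section of a smooth morphism is regularly immersed. -/
theorem of_section (p : X ⟶ S) [Smooth p] (σ : S ⟶ X) (hσ : σ ≫ p = 𝟙 S) [IsClosedImmersion σ] :
    Mor2.IsRegularClosedImmersion σ := by
  haveI : Flat (σ ≫ p) := by rw [hσ]; infer_instance
  haveI : LocallyOfFinitePresentation (σ ≫ p) := by rw [hσ]; infer_instance
  haveI : Smooth (σ ≫ p) := by rw [hσ]; infer_instance
  refine regular_of_fibres p σ fun s w => ?_
  haveI : Smooth ((σ ≫ p).fiberToSpecResidueField s) :=
    MorphismProperty.pullback_snd (P := @Smooth) (σ ≫ p) _ inferInstance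
  haveI : IsRegularLocalRing (((σ ≫ p).fiber s).presheaf.stalk w) :=
    GrpSchLib.isRegularLocalRing_stalk_of_smooth (K := S.residueField s) ((σ ≫ p).fiberToSpecResidueField s) _
  exact (CILib.isCI_iff_regular (RingHom.id _) Function.surjective_id).2 ⟨[], ⟨⟨fun i hi => by simp at hi⟩, by simp⟩,
    by rw [RingHom.ker_eq_bot_iff_eq_zero _ |>.2 (fun _ h => h), Ideal.ofList_nil]⟩

end Groth.Agent.Div57.SmoothImm
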