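import Mathlib
import Groth.Agent.AssPtX.Noeth
import Groth.Agent.AssLib.Push

/-!
# Weakly associated points of direct images
-/

set_option autoImplicit false
set_option linter.style.haveILetI false
set_option backward.isDefEq.respectTransparency false

universe u

open AlgebraicGeometry CategoryTheory TopologicalSpace

namespace Groth.Agent.Div57

/-- A prime minimal over an ideal of an integral extension with finitely many primes over its contraction
gives a prime minimal over the contraction of a colon ideal. -/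
theorem exists_colon_minimalPrimes {A B : Type u} [CommRing A] [CommRing B] (φ : A →+* B) (hφ : φ.Finite)
    (I p : Ideal B) (hp : p ∈ I.minimalPrimes) :
    ∃ b : B, p.comap φ ∈ ((I.colon ({b} : Set B)).comap φ).minimalPrimes := by
  classical
  letI := φ.toAlgebra
  haveI : Module.Finite A B := hφ
  haveI : Algebra.IsIntegral A B := Algebra.IsIntegral.of_finite A B
  haveI := hp.1.1
  let q := p.comap φ
  haveI : q.IsPrime := Ideal.comap_isPrime φ p
  have hfin : (q.primesOver B).Finite := Algebra.QuasiFinite.finite_primesOver q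
  have hex : ∀ P ∈ q.primesOver B, P ≠ p → ∃ b ∉ p, ∃ s ∉ P, s * b ∈ I := by
    intro P hP hne
    haveI := hP.1
    by_contra hcon
    push Not at hcon
    have hdisj : Disjoint (I : Set B) ((p.primeCompl ⊔ P.primeCompl : Submonoid B) : Set B) := by
      rw [Set.disjoint_right]
      intro x hx hxI
      obtain ⟨b, hb, s, hs, rfl⟩ := Submonoid.mem_sup.1 hx
      exact hcon b hb s hs (by rwa [mul_comm])
    obtain ⟨Q, hQ, hIQ, hQd⟩ := Ideal.exists_le_prime_disjoint I _ hdisj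
    have h1 : Q ≤ p := fun x hx => by_contra fun h =>
      Set.disjoint_left.1 hQd hx ((le_sup_left : p.primeCompl ≤ p.primeCompl ⊔ P.primeCompl) h)
    have h2 : Q ≤ P := fun x hx => by_contra fun h =>
      Set.disjoint_left.1 hQd hx ((le_sup_right : P.primeCompl ≤ p.primeCompl ⊔ P.primeCompl) h)
    have h3 : p ≤ P := (hp.2 ⟨hQ, hIQ⟩ h1).trans h2
    have hc : P.comap (algebraMap A B) = q := hP.2.over.symm
    refine hne ((eq_of_le_of_not_lt h3 fun hlt => ?_).symm)
    exact (Ideal.IsIntegral.comap_lt_comap (R := A) hlt).ne hc.symm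
  choose! b hb s hs hsb using hex
  let others := hfin.toFinset.erase p
  refine ⟨∏ P ∈ others, b P, ?_⟩
  set β := ∏ P ∈ others, b P with hβ
  have hmem : ∀ {P}, P ∈ others → P ∈ q.primesOver B ∧ P ≠ p := fun h =>
    ⟨hfin.mem_toFinset.1 (Finset.mem_of_mem_erase h), Finset.ne_of_mem_erase h⟩
  have hβp : β ∉ p := fun h => by
    obtain ⟨P, hP, hbP⟩ := Ideal.IsPrime.prod_mem_iff.1 h
    exact hb P (hmem hP).1 (hmem hP).2 hbP
  have hle : I.colon ({β} : Set B) ≤ p := fun x hx =>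
    (Ideal.IsPrime.mem_or_mem inferInstance (hp.1.2 (Submodule.mem_colon_singleton.1 hx))).resolve_right hβp
  refine ⟨⟨inferInstance, Ideal.comap_mono hle⟩, fun q' hq' hle' => ?_⟩
  haveI := hq'.1
  obtain ⟨P', hP'I, hP', hP'q⟩ := Ideal.exists_ideal_over_prime_of_isIntegral q' (I.colon ({β} : Set B)) hq'.2
  haveI := hP'
  obtain ⟨P, hP'P, hP, hPq⟩ := Ideal.exists_ideal_over_prime_of_isIntegral_of_isPrime q P' (hP'q ▸ hle')
  haveI := hP
  by_cases hPp : P = p
  · subst hPp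
    have hIP' : I ≤ P' := fun x hx => hP'I (Submodule.mem_colon_singleton.2 (I.mul_mem_right _ hx))
    rw [← hP'q]
    exact Ideal.comap_mono (hp.2 ⟨hP', hIP'⟩ hP'P)
  · have hPm : P ∈ q.primesOver B := ⟨hP, ⟨hPq.symm⟩⟩
    have hPo : P ∈ others := Finset.mem_erase.2 ⟨hPp, hfin.mem_toFinset.2 hPm⟩
    refine absurd (hP'P (hP'I (Submodule.mem_colon_singleton.2 ?_))) (hs P hPm hPp)
    show s P * β ∈ I
    rw [hβ, ← Finset.mul_prod_erase _ _ hPo, ← mul_assoc]
    exact Ideal.mul_mem_right _ _ (hsb P hPm hPp)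

variable {X S : Scheme.{u}} (f : X ⟶ S) {F : X.Modules}

theorem image_isWeakAssPoint_of_annEl (hF : Coh.IsQCoh F) [QuasiCompact f] [QuasiSeparated f]
    {V : S.Opens} (hV : IsAffineOpen V) {x : X} (hx : f x ∈ V) (m : Γ(F, f ⁻¹ᵁ V))
    (hm : (hV.primeIdealOf ⟨f x, hx⟩).asIdeal ∈
      ((WeakAss.annEl Γ(X, f ⁻¹ᵁ V) m).comap (f.app V).hom).minimalPrimes) :
    Curv2.IsWeakAssPoint ((Scheme.Modules.pushforward f).obj F) (f x) := by
  refine (AssPtX.isWeakAssPoint_iff_sections (QCoh.isQCoh_pushforward f hF) hV hx).2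
    (WeakAss.mem_weakAss_iff.2 ⟨(show Γ((Scheme.Modules.pushforward f).obj F, V) from m), ?_⟩)
  convert hm using 2
  ext r
  rw [Ideal.mem_comap, WeakAss.mem_annEl, WeakAss.mem_annEl]
  exact Iff.rfl

/-- Images of weakly associated points under a finite morphism are weakly associated to the direct image. -/
theorem isWeakAssPoint_push_of_finite [IsFinite f] (hF : Coh.IsQCoh F) {x : X}
    (hx : Curv2.IsWeakAssPoint F x) : Curv2.IsWeakAssPoint ((Scheme.Modules.pushforward f).obj F) (f x) := by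
  obtain ⟨V, hV, hxV, -⟩ := exists_isAffineOpen_mem_and_subset (x := f x) (U := ⊤) trivial
  have hW : IsAffineOpen (f ⁻¹ᵁ V) := hV.preimage f
  have hp := (AssPtX.isWeakAssPoint_iff_sections hF hW (show x ∈ f ⁻¹ᵁ V from hxV)).1 hx
  obtain ⟨m, hm⟩ := WeakAss.mem_weakAss_iff.1 hp
  obtain ⟨b, hb⟩ := exists_colon_minimalPrimes (f.app V).hom (f.finite_app V hV) _ _ hm
  refine image_isWeakAssPoint_of_annEl f hF hV hxV (b • m) ?_
  rw [Scheme.Hom.app_eq_appLE, AssLib.comap_primeIdealOf f hV hW le_rfl (show x ∈ f ⁻¹ᵁ V from hxV)] at hb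
  rw [Scheme.Hom.app_eq_appLE]
  convert hb using 3
  ext r
  rw [WeakAss.mem_annEl, Submodule.mem_colon_singleton, smul_eq_mul, WeakAss.mem_annEl, mul_smul]

/-- Images of associated points under an affine morphism from a locally noetherian scheme. -/
theorem isWeakAssPoint_push_of_noetherian [IsAffineHom f] [IsLocallyNoetherian X] (hF : Coh.IsQCoh F) {x : X}
    (hx : Curv2.IsWeakAssPoint F x) : Curv2.IsWeakAssPoint ((Scheme.Modules.pushforward f).obj F) (f x) := by
  obtain ⟨V, hV, hxV, -⟩ := exists_isAffineOpen_mem_and_subset (x := f x) (U := ⊤) trivial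
  have hW : IsAffineOpen (f ⁻¹ᵁ V) := hV.preimage f
  haveI : IsNoetherianRing Γ(X, f ⁻¹ᵁ V) := IsLocallyNoetherian.component_noetherian ⟨_, hW⟩
  have hp := (AssPtX.isWeakAssPoint_iff_sections hF hW (show x ∈ f ⁻¹ᵁ V from hxV)).1 hx
  obtain ⟨hpr, m, hm⟩ := WeakAss.mem_ass_of_mem_weakAss_of_fg (IsNoetherian.noetherian _) hp
  refine image_isWeakAssPoint_of_annEl f hF hV hxV m ?_
  have h1 : WeakAss.annEl Γ(X, f ⁻¹ᵁ V) m = (hW.primeIdealOf ⟨x, hxV⟩).asIdeal := hm.symm
  rw [h1, Scheme.Hom.app_eq_appLE, AssLib.comap_primeIdealOf f hV hW le_rfl (show x ∈ f ⁻¹ᵁ V from hxV),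
    Ideal.minimalPrimes_eq_subsingleton_self]
  rfl

/-- A weakly associated point of the direct image along a quasi-compact quasi-separated morphism is in the
image. -/
theorem mem_range_of_isWeakAssPoint_push [QuasiCompact f] [QuasiSeparated f] (hF : Coh.IsQCoh F) {s : S}
    (hs : Curv2.IsWeakAssPoint ((Scheme.Modules.pushforward f).obj F) s) : s ∈ Set.range f.base := by
  obtain ⟨V, hV, hsV, -⟩ := exists_isAffineOpen_mem_and_subset (x := s) (U := ⊤) trivial
  have hp := (AssPtX.isWeakAssPoint_iff_sections (QCoh.isQCoh_pushforward f hF) hV hsV).1 hs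
  obtain ⟨n, hn⟩ := WeakAss.mem_weakAss_iff.1 hp
  let m : Γ(F, f ⁻¹ᵁ V) := n
  obtain ⟨c, hc, hcV⟩ := isCompact_iff_finite_and_eq_biUnion_affineOpens.1 (f.isCompact_preimage hV.isCompact)
  have hcle : ∀ i ∈ c, (i.1 : X.Opens) ≤ f ⁻¹ᵁ V := fun i hi =>
    hcV ▸ le_iSup₂_of_le (f := fun (i : X.affineOpens) (_ : i ∈ c) => (i : X.Opens)) i hi le_rfl
  haveI : Fintype c := hc.fintype
  let mi : ∀ i : c, Γ(F, i.1.1) := fun i => F.presheaf.map (homOfLE (hcle i.1 i.2)).op m
  let I : c → Ideal Γ(S, V) := fun i =>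
    (WeakAss.annEl Γ(X, i.1.1) (mi i)).comap (f.appLE V i.1 (hcle i.1 i.2)).hom
  have hsmul : ∀ (i : c) (r : Γ(S, V)),
      F.presheaf.map (homOfLE (hcle i.1 i.2)).op (f.app V r • m) = f.appLE V i.1 (hcle i.1 i.2) r • mi i :=
    fun i r => by
    rw [Scheme.Modules.map_smul]
    rfl
  have hle : ∀ i, WeakAss.annEl Γ(S, V) n ≤ I i := fun i r hr => by
    rw [Ideal.mem_comap, WeakAss.mem_annEl]
    rw [WeakAss.mem_annEl] at hr
    rw [← hsmul, show (f.app V r • m : Γ(F, f ⁻¹ᵁ V)) = 0 from hr, map_zero]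
  have hinf : Finset.univ.inf I ≤ WeakAss.annEl Γ(S, V) n := fun r hr => by
    rw [WeakAss.mem_annEl]
    show (f.app V r • m : Γ(F, f ⁻¹ᵁ V)) = 0
    refine TopCat.Presheaf.section_ext ⟨F.presheaf, F.isSheaf⟩ _ _ _ fun z hz => ?_
    show F.presheaf.germ (f ⁻¹ᵁ V) z hz _ = F.presheaf.germ (f ⁻¹ᵁ V) z hz 0
    have hz' : z ∈ ⨆ i ∈ c, (i : X.Opens) := hcV ▸ hz
    simp only [Opens.mem_iSup] at hz'
    obtain ⟨i, hi, hzi⟩ := hz'
    rw [map_zero, ← F.presheaf.germ_res_apply (homOfLE (hcle i hi)) z hzi, hsmul ⟨i, hi⟩,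
      show f.appLE V i.1 (hcle i hi) r • _ = _ from
        WeakAss.mem_annEl.1 (Submodule.mem_finsetInf.1 hr ⟨i, hi⟩ (Finset.mem_univ _)), map_zero]
  haveI := hn.1.1
  obtain ⟨i, -, hi⟩ := (Ideal.IsPrime.inf_le' hn.1.1).1 (hinf.trans hn.1.2)
  have hmin : (hV.primeIdealOf ⟨s, hsV⟩).asIdeal ∈ (I i).minimalPrimes :=
    ⟨⟨inferInstance, hi⟩, fun q hq hqle => hn.2 ⟨hq.1, (hle i).trans hq.2⟩ hqle⟩
  obtain ⟨P, hP, -, hPc⟩ := Ideal.exists_comap_eq_of_mem_minimalPrimes _ _ hmin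
  haveI := hP
  obtain ⟨w, hw, hwP⟩ := QCoh.exists_point i.1.2 ⟨P, hP⟩
  refine ⟨w, AssLib.eq_of_primeIdealOf_eq hV hsV (hcle i.1 i.2 hw) ?_⟩
  rw [← AssLib.comap_primeIdealOf f hV i.1.2 (hcle i.1 i.2) hw, hwP]
  exact hPc

end Groth.Agent.Div57
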